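import Groth.Agent.Vancyc.H683.YGeoZ
import Groth.Agent.Vancyc.H694.StdT

/-!
# The even model is the universal split quadric

`A[w, x_i, y_i]/(w² + b w + c + ∑ x_i y_i)` with `b = -(α + β)`, `c = α β` is `IsUniv` with `δ = α - β`, `z = w - α`.
-/

set_option autoImplicit false

open CategoryTheory CategoryTheory.Limits AlgebraicGeometry MvPolynomial
open Groth.Agent.Vancyc.H683.YGeoAlg
open Groth.Agent.Vancyc.H694.StdT

universe u

namespace Groth.Agent.Vancyc.H683.YGeoStd

variable (A : Type u) [CommRing A] (m : ℕ) (b c : A)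

/-- The polynomial `w² + b w + c + ∑ x_i y_i`. -/
noncomputable def poly : MvPolynomial (Fin (2 * m + 1)) A :=
  X 0 ^ 2 + C b * X 0 + C c + rename Fin.succ (VanCyc.quadPoly (stdT A m))

lemma poly_eq [IsLocalRing A] : VanCyc.degQuadPoly A (stdT A m) b c = poly A m b c := rfl

/-- The ring of the even model (no locality assumption). -/
abbrev BR : Type u := MvPolynomial (Fin (2 * m + 1)) A ⧸ Ideal.span {poly A m b c}

variable {A m b c}

/-- the coordinates `x_i` -/
noncomputable def bx (i : Fin m) : BR A m b c := Ideal.Quotient.mk _ (X (lo m i).succ)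

/-- the coordinates `y_i` -/
noncomputable def by' (i : Fin m) : BR A m b c := Ideal.Quotient.mk _ (X (hi m i).succ)

/-- the coordinate `w - α` -/
noncomputable def bz (α : A) : BR A m b c := Ideal.Quotient.mk _ (X 0 - C α)

lemma poly_expand : poly A m b c = X 0 ^ 2 + C b * X 0 + C c +
    ∑ i : Fin m, X (lo m i).succ * X (hi m i).succ := by
  rw [poly, quadPoly_stdT, map_sum]
  simp

/-- The even model. -/
theorem isUniv (α β : A) (hb : b = -(α + β)) (hc : c = α * β) :
    IsUniv A (BR A m b c) (α - β) bx by' (bz α) where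
  rel := by
    have h1 : (Ideal.Quotient.mk (Ideal.span {poly A m b c})) (poly A m b c) = 0 :=
      Ideal.Quotient.eq_zero_iff_mem.2 (Ideal.mem_span_singleton_self _)
    have h2 : algebraMap A (BR A m b c) (α - β) = Ideal.Quotient.mk _ (C (α - β)) := rfl
    rw [h2, bz]
    have h3 : ∑ i : Fin m, (bx i : BR A m b c) * by' i =
        Ideal.Quotient.mk _ (∑ i : Fin m, X (lo m i).succ * X (hi m i).succ) := by
      rw [map_sum]
      rfl
    rw [h3, ← map_add, ← map_mul, ← map_add, ← h1]
    congr 1
    rw [poly_expand, hb, hc]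
    simp only [map_neg, map_add, map_mul, map_sub]
    ring
  gen := by
    intro T hx hy hz p
    obtain ⟨p, rfl⟩ := Ideal.Quotient.mk_surjective p
    have hw : Ideal.Quotient.mk (Ideal.span {poly A m b c}) (X 0) ∈ T := by
      have := T.add_mem hz (T.algebraMap_mem α)
      have h4 : algebraMap A (BR A m b c) α = Ideal.Quotient.mk _ (C α) := rfl
      rw [bz, h4, ← map_add, sub_add_cancel] at this
      exact this
    induction p using MvPolynomial.induction_on with
    | C a => exact T.algebraMap_mem a
    | add p q hp hq => rw [map_add]; exact T.add_mem hp hq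
    | mul_X p k hp =>
      rw [map_mul]
      refine T.mul_mem hp ?_
      induction k using Fin.cases with
      | zero => exact hw
      | succ k =>
        obtain ⟨i, rfl⟩ | ⟨i, rfl⟩ := eq_lo_or_hi k
        · exact hx i
        · exact hy i
  lift := by
    intro E _ _ x' y' z' h
    let f : Fin (2 * m) → E := fun j => if h : (j : ℕ) < m then x' ⟨j, h⟩ else y' ⟨j - m, by omega⟩
    have hfx : ∀ i, f (lo m i) = x' i := fun i => by
      have : ((lo m i : Fin (2 * m)) : ℕ) < m := i.2
      simp only [f]
      rw [dif_pos this]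
      rfl
    have hfy : ∀ i, f (hi m i) = y' i := fun i => by
      have : ¬ ((hi m i : Fin (2 * m)) : ℕ) < m := by simp [hi]
      simp only [f]
      rw [dif_neg this]
      congr 1
      apply Fin.ext
      simp [hi]
    let g : MvPolynomial (Fin (2 * m + 1)) A →ₐ[A] E :=
      aeval (Fin.cons (α := fun _ => E) (z' + algebraMap A E α) f)
    have hg0 : g (X 0) = z' + algebraMap A E α := by simp [g]
    have hgs : ∀ k, g (X (Fin.succ k)) = f k := fun k => by simp [g]
    have hgC : ∀ a, g (C a) = algebraMap A E a := fun a => g.commutes a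
    refine ⟨Ideal.Quotient.liftₐ _ g ?_, fun i => ?_, fun i => ?_, ?_⟩
    · intro a ha
      have h5 : Ideal.span {poly A m b c} ≤ RingHom.ker g := by
        rw [Ideal.span_singleton_le_iff_mem, RingHom.mem_ker, poly_expand]
        simp only [map_add, map_mul, map_pow, map_sum, hg0, hgs, hgC, hfx, hfy, hb, hc, map_neg]
        rw [← h, map_sub]
        ring
      exact h5 ha
    · exact (hgs _).trans (hfx i)
    · exact (hgs _).trans (hfy i)
    · have : g (X 0 - C α) = z' := by rw [map_sub, hg0, hgC]; ring
      exact this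

end Groth.Agent.Vancyc.H683.YGeoStd
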