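import Groth.Agent.Vancyc.H683.LSplit
import Groth.Agent.Vancyc.H683.YGeoStd
import Groth.Agent.Vancyc.H517.HypBC

/-!
# A resolution of the even model after the finite extension of the base splitting `w² + b w + c`
-/

set_option autoImplicit false
universe u

open CategoryTheory CategoryTheory.Limits AlgebraicGeometry MvPolynomial DerivedCategory

attribute [local instance] HasDerivedCategory.standard

namespace Groth.Agent.Vancyc.H683.ResGeo

open Groth.Agent.Etrest.DEtPush Groth.Agent.Vancyc.H683.YGeoJ Groth.Agent.Vancyc.H683.YGeoAlg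
  Groth.Agent.Vancyc.H683.YGeoMain Groth.Agent.Vancyc.H683.YGeoStd Groth.Agent.Vancyc.H517.HypBC
  Groth.Agent.Vancyc.H694.StdT

section Quot

variable {A A' : Type u} [CommRing A] [CommRing A'] (φ : A →+* A') (m : ℕ) (b c : A)

lemma map_poly : MvPolynomial.map φ (poly A m b c) = poly A' m (φ b) (φ c) := by
  rw [poly_expand, poly_expand]
  simp only [map_add, map_mul, map_pow, map_sum, map_X, map_C]

/-- base change of the model ring -/
noncomputable def brMap : BR A m b c →+* BR A' m (φ b) (φ c) := quotMap φ _ _ (map_poly φ m b c)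

lemma isPullback_brMap :
    IsPullback (Spec.map (CommRingCat.ofHom (brMap φ m b c)))
      (Spec.map (CommRingCat.ofHom (algebraMap A' (BR A' m (φ b) (φ c)))))
      (Spec.map (CommRingCat.ofHom (algebraMap A (BR A m b c))))
      (Spec.map (CommRingCat.ofHom φ)) :=
  isPullback_quot (map_poly φ m b c)

variable {m b c}

lemma brMap_bx (i : Fin m) : brMap φ m b c (bx i) = bx i := by
  change Ideal.Quotient.mk _ (MvPolynomial.map φ (X (lo m i).succ)) = _
  rw [map_X]
  rfl

lemma brMap_by' (i : Fin m) : brMap φ m b c (by' i) = by' i := by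
  change Ideal.Quotient.mk _ (MvPolynomial.map φ (X (hi m i).succ)) = _
  rw [map_X]
  rfl

lemma brMap_bz (α : A) : brMap φ m b c (bz α) = bz (φ α) := by
  change Ideal.Quotient.mk _ (MvPolynomial.map φ (X 0 - C α)) = _
  rw [map_sub, map_X, map_C]
  rfl

lemma brMap_algebraMap (a : A) : brMap φ m b c (algebraMap A _ a) = algebraMap A' _ (φ a) := by
  change Ideal.Quotient.mk _ (MvPolynomial.map φ (C a)) = _
  rw [map_C]
  rfl

lemma brMap_xx (α : A) :
    (brMap φ m b c : BR A m b c → _) ∘ xx (BR A m b c) bx (bz α) = xx (BR A' m (φ b) (φ c)) bx (bz (φ α)) := by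
  funext i
  induction i using Fin.lastCases with
  | last => simp only [Function.comp_apply, xx_last, brMap_bz]
  | cast i => simp only [Function.comp_apply, xx_castSucc, brMap_bx]

lemma brMap_ll (δ α : A) :
    (brMap φ m b c : BR A m b c → _) ∘ ll A (BR A m b c) δ by' (bz α) =
      ll A' (BR A' m (φ b) (φ c)) (φ δ) by' (bz (φ α)) := by
  funext i
  induction i using Fin.lastCases with
  | last => simp only [Function.comp_apply, ll_last, map_add, brMap_bz, brMap_algebraMap]
  | cast i => simp only [Function.comp_apply, ll_castSucc, brMap_by']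

/-- The resolution `Y` is compatible with base change of `A`. -/
theorem exists_bc (δ α : A) :
    ∃ t : Y (xx (BR A' m (φ b) (φ c)) bx (bz (φ α))) (ll A' (BR A' m (φ b) (φ c)) (φ δ) by' (bz (φ α))) ⟶
        Y (xx (BR A m b c) bx (bz α)) (ll A (BR A m b c) δ by' (bz α)),
      IsPullback t (π _ _) (π _ _) (Spec.map (CommRingCat.ofHom (brMap φ m b c))) := by
  have h := isPullback_bc (xx (BR A m b c) bx (bz α)) (ll A (BR A m b c) δ by' (bz α)) (brMap φ m b c)
  have h1 := brMap_xx (b := b) (c := c) φ (m := m) α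
  have h2 := brMap_ll (b := b) (c := c) φ (m := m) δ α
  rw [← h1, ← h2]
  exact ⟨_, h⟩

end Quot

/-- The resolution of the even model. -/
theorem exists_resolution {R R' Ω : Type u} [CommRing R] [CommRing R'] [Field Ω] [Algebra R R'] [Algebra R' Ω]
    [Algebra R Ω] [IsScalarTower R R' Ω] [Module.Finite R R'] (m : ℕ) (hm : 0 < m) (b c : R) (α β : R')
    (hb : algebraMap R R' b = -(α + β)) (hc : algebraMap R R' c = α * β) (hαβ : algebraMap R' Ω (α - β) ≠ 0)
    (N : ℕ) (hN0 : 0 < N) (hN : IsUnit (N : Ω))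
    (f₀ : Spec (CommRingCat.of (YGeoStd.BR R m b c)) ⟶ Spec (CommRingCat.of R))
    (hf₀ : f₀ = Spec.map (CommRingCat.ofHom (algebraMap R _))) :
    ∃ (Ut Vt : Scheme.{u}) (g : Ut ⟶ Spec (CommRingCat.of (YGeoStd.BR R m b c))) (_ : IsProper g)
      (e : Ut ⟶ Spec (CommRingCat.of R')) (_ : Smooth e) (_ : e ≫ VanCyc.toS R R' = g ≫ f₀)
      (π : Vt ⟶ VanCyc.fib R f₀ Ω) (jt : Vt ⟶ Ut) (_ : jt ≫ g = π ≫ VanCyc.jA R f₀ Ω)
      (_ : IsPullback jt (π ≫ VanCyc.fibStr R f₀ Ω) e (VanCyc.toS R' Ω)),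
      IsSplitMono ((dPullPush π).unit.app ((DerivedCategory.singleFunctor (EtCoh.Ab _) 0).obj
        (EtCoh.const _ (ZMod N)))) := by
  subst hf₀
  -- the model over `R'`
  let φ : R →+* R' := algebraMap R R'
  let ψ : R' →+* Ω := algebraMap R' Ω
  have hψφ : ψ.comp φ = algebraMap R Ω := (IsScalarTower.algebraMap_eq R R' Ω).symm
  have hb' : φ b = -(α + β) := hb
  have hc' : φ c = α * β := hc
  have hU : IsUniv R' (BR R' m (φ b) (φ c)) (α - β) bx by' (bz α) := YGeoStd.isUniv α β hb' hc'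
  have hUΩ : IsUniv Ω (BR Ω m (ψ (φ b)) (ψ (φ c))) (ψ (α - β)) bx by' (bz (ψ α)) := by
    rw [map_sub]
    exact YGeoStd.isUniv (ψ α) (ψ β) (by rw [hb', map_neg, map_add]) (by rw [hc', map_mul])
  have P1 := isPullback_brMap φ m b c
  have P2 := isPullback_brMap ψ m (φ b) (φ c)
  obtain ⟨t, ht⟩ := exists_bc (m := m) (b := φ b) (c := φ c) ψ (α - β) α
  -- the isomorphism of `Spec BΩ` with the geometric generic fibre
  have P3 := P2.paste_horiz P1
  have hS : Spec.map (CommRingCat.ofHom ψ) ≫ Spec.map (CommRingCat.ofHom φ) = VanCyc.toS R Ω := by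
    rw [← Spec.map_comp, ← CommRingCat.ofHom_comp, hψφ]
  rw [hS] at P3
  let i : VanCyc.fib R (Spec.map (CommRingCat.ofHom (algebraMap R (BR R m b c)))) Ω ≅
      Spec (CommRingCat.of (BR Ω m (ψ (φ b)) (ψ (φ c)))) := P3.isoPullback.symm
  have hi1 : i.hom ≫ Spec.map (CommRingCat.ofHom (algebraMap Ω (BR Ω m (ψ (φ b)) (ψ (φ c))))) =
      VanCyc.fibStr R _ Ω := P3.isoPullback_inv_snd
  have hi2 : i.hom ≫ Spec.map (CommRingCat.ofHom (brMap ψ m (φ b) (φ c))) ≫
      Spec.map (CommRingCat.ofHom (brMap φ m b c)) = VanCyc.jA R _ Ω := P3.isoPullback_inv_fst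
  let P' := π (xx (BR R' m (φ b) (φ c)) bx (bz α)) (ll R' (BR R' m (φ b) (φ c)) (α - β) by' (bz α))
  let PΩ := π (xx (BR Ω m (ψ (φ b)) (ψ (φ c))) bx (bz (ψ α)))
    (ll Ω (BR Ω m (ψ (φ b)) (ψ (φ c))) (ψ (α - β)) by' (bz (ψ α)))
  have hfin : IsFinite (Spec.map (CommRingCat.ofHom φ)) := by
    rw [IsFinite.SpecMap_iff]
    exact RingHom.finite_algebraMap.mpr inferInstance
  have hfin' : IsFinite (Spec.map (CommRingCat.ofHom (brMap φ m b c))) :=
    MorphismProperty.of_isPullback P1.flip hfin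
  have hsm : SmoothOfRelativeDimension (2 * m) (P' ≫ Spec.map (CommRingCat.ofHom (algebraMap R' _))) :=
    smooth_π hU
  have hsm' : Smooth (P' ≫ Spec.map (CommRingCat.ofHom (algebraMap R' (BR R' m (φ b) (φ c))))) :=
    hsm.smooth
  have Q : IsPullback (pullback.fst PΩ i.hom) (pullback.snd PΩ i.hom) PΩ i.hom := IsPullback.of_hasPullback _ _
  refine ⟨_, pullback PΩ i.hom, P' ≫ Spec.map (CommRingCat.ofHom (brMap φ m b c)), inferInstance,
    P' ≫ Spec.map (CommRingCat.ofHom (algebraMap R' _)), hsm', ?_, pullback.snd PΩ i.hom,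
    pullback.fst PΩ i.hom ≫ t, ?_, ?_, ?_⟩
  · rw [Category.assoc, Category.assoc, P1.w]
  · rw [Category.assoc, ht.w_assoc, ← hi2, Q.w_assoc]
  · have h1 := Q.paste_horiz ht
    have h2 : IsPullback (i.hom ≫ Spec.map (CommRingCat.ofHom (brMap ψ m (φ b) (φ c))))
        (VanCyc.fibStr R _ Ω) (Spec.map (CommRingCat.ofHom (algebraMap R' _))) (Spec.map (CommRingCat.ofHom ψ)) := by
      have h3 : IsPullback i.hom (VanCyc.fibStr R _ Ω)
          (Spec.map (CommRingCat.ofHom (algebraMap Ω (BR Ω m (ψ (φ b)) (ψ (φ c)))))) (𝟙 _) :=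
        IsPullback.of_horiz_isIso ⟨by rw [hi1, Category.comp_id]⟩
      have h4 := h3.paste_horiz P2
      rwa [Category.id_comp] at h4
    exact h1.paste_vert h2
  · have hδ : ∀ x : VanCyc.fib R (Spec.map (CommRingCat.ofHom (algebraMap R (BR R m b c)))) Ω,
        algebraMap Ω (BR Ω m (ψ (φ b)) (ψ (φ c))) (ψ (α - β)) ∉ (i.hom x).asIdeal := by
      intro x hx
      exact (i.hom x).2.ne_top (Ideal.eq_top_of_isUnit_mem _ hx ((IsUnit.mk0 _ hαβ).map _))
    have hN' : IsUnit (N : Γ(VanCyc.fib R (Spec.map (CommRingCat.ofHom (algebraMap R (BR R m b c)))) Ω, ⊤)) := by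
      have h5 := hN.map ((Scheme.ΓSpecIso (CommRingCat.of Ω)).inv ≫
        (VanCyc.fibStr R (Spec.map (CommRingCat.ofHom (algebraMap R (BR R m b c)))) Ω).appTop).hom
      rwa [map_natCast] at h5
    exact LSplit.isSplitMono_unit hUΩ hm i.hom hδ N hN0 hN'

end Groth.Agent.Vancyc.H683.ResGeo
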