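import Groth.Agent.Vancyc.H679.ConeLES

/-!
# Bounds on the cone of a map `u : Y[0] ⟶ T`
-/

set_option autoImplicit false
set_option linter.unusedSectionVars false
universe w w' v u
open CategoryTheory CategoryTheory.Limits CategoryTheory.Pretriangulated DerivedCategory Opposite
open CategoryTheory.Abelian

namespace Groth.Agent.Vancyc.H683.ConeBd

open Groth.Agent.Vancyc.H679.ConeLES DerivedCategory.TStructure

variable {B : Type u} [Category.{v} B] [Abelian B] [HasDerivedCategory.{w'} B] [HasExt.{w} B]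

variable {Y : B} {T C : DerivedCategory B} (u : (singleFunctor B 0).obj Y ⟶ T) (g : T ⟶ C)
  (h : C ⟶ ((singleFunctor B 0).obj Y)⟦(1 : ℤ)⟧) (hT : Triangle.mk u g h ∈ distTriang (DerivedCategory B))

include hT in
/-- An upper bound for the cone. -/
theorem isLE_cone (r : ℤ) (hr : 1 ≤ r) (hz : ∀ q : ℤ, r ≤ q → IsZero ((homologyFunctor B q).obj T)) :
    C.IsLE (r - 1) := by
  rw [isLE_iff]
  intro q hq
  have := isIso_H_cone.{w} u g h hT q (by lia) (by lia)
  exact (hz q (by lia)).of_iso (asIso ((homologyFunctor B q).map g)).symm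

include hT in
/-- A lower bound for the cone. -/
theorem isGE_cone' (r : ℤ) [hTG : T.IsGE 0] (h0 : IsIso ((homologyFunctor B 0).map u))
    (hz : ∀ q : ℤ, 0 < q → q < r → IsZero ((homologyFunctor B q).obj T)) : C.IsGE r := by
  rw [isGE_iff]
  intro q hq
  rcases lt_trichotomy q (-1) with h1 | rfl | h1
  · have := isGE_cone.{w} u g h hT
    exact isZero_of_isGE C (-1) q h1
  · obtain ⟨e⟩ := nonempty_iso_H_cone_neg.{w} u g h hT
    exact (isZero_kernel_of_mono ((homologyFunctor B 0).map u)).of_iso e
  · rcases eq_or_ne q 0 with rfl | hq0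
    · obtain ⟨e⟩ := nonempty_iso_H_cone_zero.{w} u g h hT
      exact (isZero_cokernel_of_epi ((homologyFunctor B 0).map u)).of_iso e.symm
    · have := isIso_H_cone.{w} u g h hT q (by lia) (by lia)
      exact (hz q (by lia) hq).of_iso (asIso ((homologyFunctor B q).map g)).symm

/-- A map with zero connecting morphism is a split monomorphism. -/
theorem isSplitMono_of_eq_zero {Y' : DerivedCategory B} (u : Y' ⟶ T) (g : T ⟶ C)
    (h : C ⟶ Y'⟦(1 : ℤ)⟧) (hT : Triangle.mk u g h ∈ distTriang (DerivedCategory B)) (h0 : h = 0) :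
    IsSplitMono u := by
  have h1 : Mono u := Triangle.mono₁ (Triangle.mk u g h) hT h0
  exact isSplitMono_of_mono u

end Groth.Agent.Vancyc.H683.ConeBd
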