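import Groth.Agent.Vancyc.H683.YGeoMain
import Mathlib.AlgebraicGeometry.Morphisms.Etale

/-!
# The centre of the partial resolution of the split quadric

For `B = A[x, y, z]/(z (z + δ) + ∑ x_i y_i)` and `g : T ⟶ Spec B` étale with `δ` invertible on `T`:

* `T` is smooth over `A` of relative dimension `2 m`;
* the centre `V(x, z)` of `T` is smooth over `A` of relative dimension `m`.
-/

set_option autoImplicit false

open CategoryTheory CategoryTheory.Limits AlgebraicGeometry MvPolynomial
open Groth.Agent.Sga5.ProjChart Groth.Agent.Sga5.ProjSmooth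
open Groth.Agent.Vancyc.H683.YGeoV Groth.Agent.Vancyc.H683.YGeoBC Groth.Agent.Vancyc.H683.YGeoJ
open Groth.Agent.Vancyc.H683.YGeoAlg Groth.Agent.Vancyc.H683.YGeoMain

universe u

namespace Groth.Agent.Vancyc.H683.YGeoZ

variable {A B : Type u} [CommRing A] [CommRing B] [Algebra A B] {m : ℕ} {δ : A} {x y : Fin m → B} {z : B}

/-- The symmetry exchanging `(x, z)` and `(y, z + δ)`. -/
theorem isUniv_symm (h : IsUniv A B δ x y z) : IsUniv A B (-δ) y x (z + algebraMap A B δ) where
  rel := by
    rw [map_neg]
    have := h.rel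
    have h2 : ∑ i, y i * x i = ∑ i, x i * y i := Finset.sum_congr rfl fun i _ => mul_comm _ _
    rw [h2, ← this]
    ring
  gen := fun T hy hx hz b => h.gen T hx hy (by
    have := T.sub_mem hz (T.algebraMap_mem δ)
    simpa using this) b
  lift := fun E _ _ y' x' z' h1 => by
    obtain ⟨g, hg1, hg2, hg3⟩ := h.lift E x' y' (z' - algebraMap A E δ) (by
      rw [← h1]
      have h2 : ∑ i, y' i * x' i = ∑ i, x' i * y' i := Finset.sum_congr rfl fun i _ => mul_comm _ _
      rw [h2, map_neg]
      ring)
    exact ⟨g, hg2, hg1, by rw [map_add, hg3, AlgHom.commutes]; ring⟩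

variable (x z) in
/-- The ideal of the centre. -/
abbrev cI : Ideal B := Ideal.span (Set.range (xx B x z))

/-- The structure map of the centre. -/
theorem bijective_centre (h : IsUniv A B δ x y z) : Function.Bijective
    (aeval (fun i => Ideal.Quotient.mk (cI x z) (y i)) : MvPolynomial (Fin m) A →ₐ[A] B ⧸ cI x z) := by
  obtain ⟨g, hg1, hg2, hg3⟩ := h.lift (MvPolynomial (Fin m) A) (fun _ => 0) X 0 (by simp)
  have hx : ∀ i, xx B x z i ∈ cI x z := fun i => Ideal.subset_span ⟨i, rfl⟩
  have hx' : ∀ i, x i ∈ cI x z := fun i => by simpa using hx i.castSucc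
  have hz : z ∈ cI x z := by simpa using hx (Fin.last m)
  refine bijective_aeval _ (Ideal.Quotient.liftₐ (cI x z) g ?_) ?_ ?_
  · intro a ha
    have : cI x z ≤ RingHom.ker g := by
      rw [Ideal.span_le]
      rintro _ ⟨i, rfl⟩
      induction i using Fin.lastCases with
      | last => rw [xx_last]; exact hg3
      | cast i => rw [xx_castSucc]; exact hg1 i
    exact this ha
  · intro k
    exact hg2 k
  · intro T hT w
    obtain ⟨b, rfl⟩ := Ideal.Quotient.mk_surjective w
    refine h.gen (T.comap (Ideal.Quotient.mkₐ A (cI x z))) (fun i => ?_) hT ?_ b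
    · change Ideal.Quotient.mk (cI x z) (x i) ∈ T
      rw [Ideal.Quotient.eq_zero_iff_mem.2 (hx' i)]
      exact T.zero_mem
    · change Ideal.Quotient.mk (cI x z) z ∈ T
      rw [Ideal.Quotient.eq_zero_iff_mem.2 hz]
      exact T.zero_mem

variable (x z) in
/-- The centre. -/
noncomputable abbrev Z : Scheme.{u} := Spec (CommRingCat.of (B ⧸ cI x z))

variable (x z) in
/-- The inclusion of the centre. -/
noncomputable abbrev zι : Z x z ⟶ Spec (CommRingCat.of B) :=
  Spec.map (CommRingCat.ofHom (Ideal.Quotient.mk (cI x z)))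

instance isClosedImmersion_zι : IsClosedImmersion (zι x z) :=
  IsClosedImmersion.spec_of_surjective _ Ideal.Quotient.mk_surjective

lemma mem_range_zι (p : Spec (CommRingCat.of B)) : p ∈ Set.range (zι x z) ↔ ∀ i, xx B x z i ∈ p.asIdeal := by
  have h1 : Set.range (zι x z) = PrimeSpectrum.zeroLocus (cI x z : Set B) := by
    have := range_comap_of_surjective (B ⧸ cI x z) (Ideal.Quotient.mk (cI x z))
      Ideal.Quotient.mk_surjective
    rw [Ideal.mk_ker] at this
    exact this
  rw [h1, PrimeSpectrum.zeroLocus_span]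
  change Set.range (xx B x z) ⊆ p.asIdeal ↔ _
  constructor
  · intro h i; exact h ⟨i, rfl⟩
  · rintro h _ ⟨i, rfl⟩; exact h i

/-- The centre is smooth over `A` of relative dimension `m`. -/
theorem smooth_Z (h : IsUniv A B δ x y z) :
    SmoothOfRelativeDimension m (zι x z ≫ Spec.map (CommRingCat.ofHom (algebraMap A B))) := by
  have h1 : zι x z ≫ Spec.map (CommRingCat.ofHom (algebraMap A B)) =
      Spec.map (CommRingCat.ofHom (algebraMap A (B ⧸ cI x z))) := by
    rw [← Spec.map_comp, ← CommRingCat.ofHom_comp]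
  rw [h1, HasRingHomProperty.Spec_iff (P := @SmoothOfRelativeDimension m)]
  have h2 : Algebra.IsStandardSmoothOfRelativeDimension m A (B ⧸ cI x z) := by
    have := stdSmooth_mvPolynomial A m
    exact Algebra.IsStandardSmoothOfRelativeDimension.of_algEquiv _
      (AlgEquiv.ofBijective _ (bijective_centre h))
  refine RingHom.locally_of RingHom.isStandardSmoothOfRelativeDimension_respectsIso _ ?_
  rw [← RingHom.isStandardSmoothOfRelativeDimension_algebraMap] at h2
  exact h2

/-- An étale `Spec B`-scheme is smooth over `A` outside the centre. -/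
theorem smooth_of_forall (h : IsUniv A B δ x y z) {T : Scheme.{u}} (g : T ⟶ Spec (CommRingCat.of B))
    [Etale g] (hg : ∀ t, ∃ j, xx B x z j ∉ (g t).asIdeal) :
    SmoothOfRelativeDimension (2 * m) (g ≫ Spec.map (CommRingCat.ofHom (algebraMap A B))) := by
  have h1 := isIso_pullback _ _ h.sum_eq_zero g hg
  have h2 := smooth_π h
  have h3 : g ≫ Spec.map (CommRingCat.ofHom (algebraMap A B)) =
      (inv (pullback.snd (π (xx B x z) (ll A B δ y z)) g) ≫
        pullback.fst (π (xx B x z) (ll A B δ y z)) g) ≫
        π (xx B x z) (ll A B δ y z) ≫ Spec.map (CommRingCat.ofHom (algebraMap A B)) := by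
    rw [← Category.assoc _ (π (xx B x z) (ll A B δ y z)), Category.assoc _ _ (π (xx B x z) (ll A B δ y z)),
      pullback.condition, IsIso.inv_hom_id_assoc]
  rw [h3]
  have h6 : SmoothOfRelativeDimension (0 + 2 * m) ((inv (pullback.snd (π (xx B x z) (ll A B δ y z)) g) ≫
        pullback.fst (π (xx B x z) (ll A B δ y z)) g) ≫
        π (xx B x z) (ll A B δ y z) ≫ Spec.map (CommRingCat.ofHom (algebraMap A B))) := inferInstance
  rwa [zero_add] at h6

/-- An étale `Spec B`-scheme on which `δ` is invertible is smooth over `A`. -/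
theorem smooth_of_unit (h : IsUniv A B δ x y z) {T : Scheme.{u}} (g : T ⟶ Spec (CommRingCat.of B))
    [Etale g] (hg : ∀ t, algebraMap A B δ ∉ (g t).asIdeal) :
    SmoothOfRelativeDimension (2 * m) (g ≫ Spec.map (CommRingCat.ofHom (algebraMap A B))) := by
  let U : Bool → T.Opens := fun b => g ⁻¹ᵁ (PrimeSpectrum.basicOpen (if b then z else z + algebraMap A B δ))
  have hU : TopologicalSpace.IsOpenCover U := by
    rw [TopologicalSpace.IsOpenCover, eq_top_iff]
    intro t _
    by_cases ht : z ∈ (g t).asIdeal
    · refine TopologicalSpace.Opens.mem_iSup.2 ⟨false, ?_⟩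
      change z + algebraMap A B δ ∉ (g t).asIdeal
      exact fun h' => hg t ((Ideal.add_mem_iff_right _ ht).1 h')
    · exact TopologicalSpace.Opens.mem_iSup.2 ⟨true, ht⟩
  rw [IsZariskiLocalAtSource.iff_of_openCover (P := @SmoothOfRelativeDimension (2 * m))
    (T.openCoverOfIsOpenCover U hU)]
  rintro (_ | _)
  · change SmoothOfRelativeDimension (2 * m) ((U false).ι ≫ g ≫ _)
    rw [← Category.assoc]
    refine smooth_of_forall (isUniv_symm h) _ fun t => ⟨Fin.last m, ?_⟩
    rw [xx_last]
    exact t.2
  · change SmoothOfRelativeDimension (2 * m) ((U true).ι ≫ g ≫ _)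
    rw [← Category.assoc]
    refine smooth_of_forall h _ fun t => ⟨Fin.last m, ?_⟩
    rw [xx_last]
    exact t.2

section Centre

variable {T : Scheme.{u}} (g : T ⟶ Spec (CommRingCat.of B))

variable (x z) in
/-- The centre of `T`. -/
noncomputable abbrev ZT : Scheme.{u} := pullback g (zι x z)

variable (x z) in
/-- The inclusion of the centre of `T`. -/
noncomputable abbrev zT : ZT x z g ⟶ T := pullback.fst g (zι x z)

instance : IsClosedImmersion (zT x z g) := inferInstance

lemma mem_range_zT (t : T) : t ∈ Set.range (zT x z g) ↔ ∀ i, xx B x z i ∈ (g t).asIdeal := by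
  rw [← mem_range_zι]
  have := Scheme.Pullback.range_fst g (zι x z)
  rw [this]
  rfl

theorem smooth_ZT (h : IsUniv A B δ x y z) [Etale g] :
    SmoothOfRelativeDimension m (zT x z g ≫ g ≫ Spec.map (CommRingCat.ofHom (algebraMap A B))) := by
  have h2 := smooth_Z h
  have h3 : zT x z g ≫ g ≫ Spec.map (CommRingCat.ofHom (algebraMap A B)) =
      pullback.snd g (zι x z) ≫ zι x z ≫ Spec.map (CommRingCat.ofHom (algebraMap A B)) := by
    rw [← Category.assoc, pullback.condition, Category.assoc]
  rw [h3]
  have h6 : SmoothOfRelativeDimension (0 + m) (pullback.snd g (zι x z) ≫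
        zι x z ≫ Spec.map (CommRingCat.ofHom (algebraMap A B))) := inferInstance
  rwa [zero_add] at h6

end Centre

end Groth.Agent.Vancyc.H683.YGeoZ
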