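import Groth.Agent.Vancyc.H683.LSplitGen
import Groth.Agent.Vancyc.H683.YGeoZ
import Groth.Agent.Etrest.ConstBasic
import Groth.Agent.EtpbcB.TorsionBasic
import Groth.Agent.S0126
import Groth.Agent.S3099

/-!
# `ℤ/N ⟶ Rp_* ℤ/N` splits for the partial resolution of the split quadric

`T ⟶ Spec B` étale, `B = A[x, y, z]/(z (z + δ) + ∑ x_i y_i)`, `δ` and `N` invertible on `T`, `p : Y ×_B T ⟶ T`.
-/

set_option autoImplicit false
universe u

open CategoryTheory CategoryTheory.Limits AlgebraicGeometry Opposite DerivedCategory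

attribute [local instance] HasDerivedCategory.standard

namespace Groth.Agent.Vancyc.H683.LSplit

open Groth.Agent.Etrest.DEtPush Groth.Agent.Vancyc.H683.YGeoJ Groth.Agent.Vancyc.H683.YGeoAlg
  Groth.Agent.Vancyc.H683.YGeoMain Groth.Agent.Vancyc.H683.YGeoZ Groth.Agent.Vancyc.H683.LSplitGen

variable {A B : Type u} [CommRing A] [CommRing B] [Algebra A B] {m : ℕ} {δ : A} {x y : Fin m → B} {z : B}

/-- `ℤ/N ⟶ Rp_* ℤ/N` is a split monomorphism. -/
theorem isSplitMono_unit (h : IsUniv A B δ x y z) (hm : 0 < m) {T : Scheme.{u}}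
    (g : T ⟶ Spec (CommRingCat.of B)) [Etale g] (hδ : ∀ t, algebraMap A B δ ∉ (g t).asIdeal)
    (N : ℕ) (hN0 : 0 < N) (hN : IsUnit (N : Γ(T, ⊤))) :
    IsSplitMono ((dPullPush (pullback.snd (π (xx B x z) (ll A B δ y z)) g)).unit.app
      ((singleFunctor (EtCoh.Ab T) 0).obj (EtCoh.const T (ZMod N)))) := by
  have : NeZero N := ⟨hN0.ne'⟩
  let p := pullback.snd (π (xx B x z) (ll A B δ y z)) g
  have hp : IsProper p := inferInstance
  let F := EtCoh.const T (ZMod N)
  have hF : EtCoh.IsFiniteLocallyConstant F := Etrest.ConstBasic.isFiniteLocallyConstant_const T (ZMod N)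
  have hK : EtCoh.KilledBy N F := EtpbcB.TorsionBasic.killedBy_const (ZMod N) N fun x => by
    rw [nsmul_eq_mul, ZMod.natCast_self, zero_mul]
  -- the complement of the centre
  let U : T.Opens := ⟨(Set.range (zT x z g))ᶜ, (zT x z g).isClosedEmbedding.isClosed_range.isOpen_compl⟩
  have hU : Set.range U.ι = (Set.range (zT x z g))ᶜ := by rw [Scheme.Opens.range_ι]; rfl
  have s1 := smooth_of_unit h g hδ
  have s2 : SmoothOfRelativeDimension (m + m) (g ≫ Spec.map (CommRingCat.ofHom (algebraMap A B))) := by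
    rwa [← two_mul]
  have s3 := smooth_ZT g h
  obtain ⟨h1, h2⟩ := Groth.Agent.S3099.result (g ≫ Spec.map (CommRingCat.ofHom (algebraMap A B)))
    (zT x z g ≫ g ≫ Spec.map (CommRingCat.ofHom (algebraMap A B))) (zT x z g) m m hm rfl U.ι hU N hN F hF hK
  refine LSplitGen.isSplitMono_unit U.ι p F (2 * m - 1) (by omega) h1 (fun q hq hq' => h2 q hq (by omega))
    (fun q hq => ?_) ?_
  · refine Groth.Agent.S0126.result p (m - 1) (fun t => topologicalKrullDim_fiber_univ h hm g t (hδ t)) _ ?_ q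
      (by omega)
    exact Etrest.ConstBasic.isTorsion_of_killedBy hN0 (EtpbcB.TorsionBasic.killedBy_map _ _ _ hK)
  · have hi : IsIso (pullback.snd p U.ι) := by
      have h3 := isIso_pullback _ _ h.sum_eq_zero (U.ι ≫ g) (fun t => by
        have h4 : U.ι t ∈ Set.range U.ι := ⟨t, rfl⟩
        rw [hU, Set.mem_compl_iff, mem_range_zT] at h4
        push Not at h4
        exact h4)
      have h5 : pullback.snd p U.ι =
          (pullbackLeftPullbackSndIso (π (xx B x z) (ll A B δ y z)) g U.ι).hom ≫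
            pullback.snd (π (xx B x z) (ll A B δ y z)) (U.ι ≫ g) := by
        rw [pullbackLeftPullbackSndIso_hom_snd]
      rw [h5]
      infer_instance
    exact isIso_pullD_unit (IsPullback.of_hasPullback p U.ι) _

end Groth.Agent.Vancyc.H683.LSplit
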