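import Groth.Agent.Vancyc.H683.ConeBd
import Groth.Agent.Vancyc.H679.EtLES
import Groth.Agent.Sga4h.OpenClosed
import Groth.Agent.Sga4h.GSqEt
import Groth.Agent.Etrest.DEtMate

/-!
# A criterion for `F ⟶ Rp_* p^* F` to be a split monomorphism

`j : U ⟶ T` étale, `p : Y ⟶ T` an isomorphism over `U`, `F ≅ j_* j^* F`, `R^q j_* j^* F = 0` for `0 < q < r` and
`R^q p_* p^* F = 0` for `q ≥ r`.
-/

set_option autoImplicit false
set_option linter.unusedSectionVars false
universe u

open CategoryTheory CategoryTheory.Limits AlgebraicGeometry Opposite Pretriangulated DerivedCategory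

attribute [local instance] HasDerivedCategory.standard

namespace Groth.Agent.Vancyc.H683.LSplitGen

open Groth.Agent.Etrest.DEtPush Groth.Agent.Etrest.DEtMate Groth.Agent.Etrest.RDer3
  Groth.Agent.Etrest.RDer4 Groth.Agent.Etrest.RDer5 Groth.Agent.Sga4h.GSq Groth.Agent.Sga4h
  Groth.Agent.Vancyc.H679 Groth.Agent.Vancyc.H683.ConeBd DerivedCategory.TStructure

variable {T U Y YU : Scheme.{u}}

theorem isIso_unit_of_isIso (p : Y ⟶ T) [IsIso p] (K : DCoh.DEt T) : IsIso ((dPullPush p).unit.app K) := by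
  have h1 : (EtCoh.pull p).IsEquivalence := isEquivalence_pull_of_isIso p
  have h2 : (pullD p).IsEquivalence := isEquivalence_pullD p
  have h3 : IsIso (dPullPush p).unit := inferInstance
  infer_instance

variable {j : U ⟶ T} {p : Y ⟶ T} {p' : YU ⟶ U} {g' : YU ⟶ Y}

theorem isIso_pullD_unit (h : IsPullback g' p' p j) [Etale j] [IsIso p'] (K : DCoh.DEt T) :
    IsIso ((pullD j).map ((dPullPush p).unit.app K)) := by
  have h1 := mate_unit (dPullPush p) (dPullPush p') (cmpD h.w).hom K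
  have h2 : IsIso ((bcEt h.w).app ((pullD p).obj K)) := (BC_iff _ _).1 (bc_of_etale h _)
  rw [bcEt_eq_mate] at h2
  have h3 := isIso_unit_of_isIso p' ((pullD j).obj K)
  have h4 : IsIso ((dPullPush p').unit.app ((pullD j).obj K) ≫ (pushD p').map ((cmpD h.w).hom.app K)) :=
    inferInstance
  rw [← h1] at h4
  exact IsIso.of_isIso_comp_right _ ((mate (dPullPush p) (dPullPush p') (cmpD h.w).hom).app ((pullD p).obj K))

section bounds

variable (f : U ⟶ T) (F : EtCoh.Ab T)

/-- `H^q(Rf_* f^* F) ≅ R^q f_* f^* F`. -/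
theorem nonempty_homologyIso (q : ℕ) : Nonempty ((homologyFunctor (EtCoh.Ab T) (q : ℤ)).obj
    ((pushD f).obj ((pullD f).obj ((singleFunctor (EtCoh.Ab T) 0).obj F))) ≅
      (EtCoh.Rpush f q).obj ((EtCoh.pull f).obj F)) := by
  have hp := EtLES.hPushPFL f
  exact ⟨AdjLES.homologyIso (L := EtCoh.pull f) (G := EtCoh.push f) F q⟩

theorem isGE_pushD : ((pushD f).obj ((pullD f).obj ((singleFunctor (EtCoh.Ab T) 0).obj F))).IsGE 0 := by
  have hp := EtLES.hPushPFL f
  exact AdjLES.isGE_T (L := EtCoh.pull f) (G := EtCoh.push f) F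

theorem isIso_H0_unit (h : IsIso ((EtCoh.pullPushAdj f).unit.app F)) :
    IsIso ((homologyFunctor (EtCoh.Ab T) 0).map ((dPullPush f).unit.app
      ((singleFunctor (EtCoh.Ab T) 0).obj F))) := by
  have hp := EtLES.hPushPFL f
  let e := AdjLES.arrowIsoSingle (EtCoh.pullPushAdj f) F
  have h1 := (MorphismProperty.isomorphisms (EtCoh.Ab T)).arrow_mk_iso_iff e
  exact h1.2 h

end bounds

/-- The criterion. -/
theorem isSplitMono_unit (j : U ⟶ T) (p : Y ⟶ T) (F : EtCoh.Ab T) (r : ℕ) (hr : 1 ≤ r)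
    (hj0 : IsIso ((EtCoh.pullPushAdj j).unit.app F))
    (hj : ∀ q : ℕ, q ≠ 0 → q < r → IsZero ((EtCoh.Rpush j q).obj ((EtCoh.pull j).obj F)))
    (hp : ∀ q : ℕ, r ≤ q → IsZero ((EtCoh.Rpush p q).obj ((EtCoh.pull p).obj F)))
    (hu : IsIso ((pullD j).map ((dPullPush p).unit.app ((singleFunctor (EtCoh.Ab T) 0).obj F)))) :
    IsSplitMono ((dPullPush p).unit.app ((singleFunctor (EtCoh.Ab T) 0).obj F)) := by
  let S := (singleFunctor (EtCoh.Ab T) 0).obj F
  let u : S ⟶ (pushD p).obj ((pullD p).obj S) := (dPullPush p).unit.app S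
  let v : S ⟶ (pushD j).obj ((pullD j).obj S) := (dPullPush j).unit.app S
  obtain ⟨C, g, δ, hT⟩ := distinguished_cocone_triangle u
  obtain ⟨G, g', δ', hT'⟩ := distinguished_cocone_triangle v
  refine isSplitMono_of_eq_zero u g δ hT ?_
  -- `C ∈ D^{≤ r - 1}`
  have hC : C.IsLE ((r : ℤ) - 1) := by
    refine isLE_cone u g δ hT r (by exact_mod_cast hr) fun q hq => ?_
    obtain ⟨q, rfl⟩ := Int.eq_ofNat_of_zero_le (a := q) (by lia)
    obtain ⟨e⟩ := nonempty_homologyIso p F q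
    exact (hp q (by exact_mod_cast hq)).of_iso e
  -- `G ∈ D^{≥ r}`
  have hG : G.IsGE (r : ℤ) := by
    have h1 := isGE_pushD j F
    refine isGE_cone' v g' δ' hT' r (isIso_H0_unit j F hj0) fun q hq hq' => ?_
    obtain ⟨q, rfl⟩ := Int.eq_ofNat_of_zero_le (a := q) (by lia)
    obtain ⟨e⟩ := nonempty_homologyIso j F q
    exact (hj q (by lia) (by exact_mod_cast hq')).of_iso e
  -- `j^* C = 0`
  have hjC : IsZero ((pullD j).obj C) :=
    (Triangle.isZero₃_iff_isIso₁ _ ((pullD j).map_distinguished _ hT)).2 hu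
  -- maps to `Rj_*`
  have hz : ∀ f : C ⟶ ((pushD j).obj ((pullD j).obj S))⟦(1 : ℤ)⟧, f = 0 := by
    intro f
    let e := ((pushD j).commShiftIso (1 : ℤ)).app ((pullD j).obj S)
    have h1 : f ≫ e.inv = 0 := by
      apply ((dPullPush j).homEquiv _ _).symm.injective
      exact hjC.eq_of_src _ _
    rw [← cancel_mono e.inv, h1, zero_comp]
  obtain ⟨w, hw⟩ := Triangle.coyoneda_exact₁ (Triangle.mk v g' δ') hT' δ (hz _)
  have hw0 : w = 0 := t.zero_of_isLE_of_isGE w ((r : ℤ) - 1) r (by lia) hC hG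
  rw [hw, hw0]
  exact zero_comp

end Groth.Agent.Vancyc.H683.LSplitGen
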