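import Groth.Agent.Vancyc.H683.YGeoJ

/-!
# The charts of the partial resolution of the split quadric

`IsUniv A B δ x y z` : `B = A[x, y, z]/(z (z + δ) + ∑ x_i y_i)`, by its universal property.  For such a `B` the charts
of `Y (x, z) (y, z + δ)` are polynomial rings over `A`.
-/

set_option autoImplicit false

open CategoryTheory CategoryTheory.Limits AlgebraicGeometry MvPolynomial HomogeneousLocalization
open Groth.Agent.Sga5.ProjChart Groth.Agent.Sga5.ProjSmooth
open Groth.Agent.Vancyc.H683.YGeoV Groth.Agent.Vancyc.H683.YGeoBC Groth.Agent.Vancyc.H683.YGeoJ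

universe u

namespace Groth.Agent.Vancyc.H683.YGeoAlg

variable (A B : Type u) [CommRing A] [CommRing B] [Algebra A B] {m : ℕ} (δ : A) (x y : Fin m → B) (z : B)

/-- `B = A[x, y, z]/(z (z + δ) + ∑ x_i y_i)`. -/
structure IsUniv : Prop where
  rel : z * (z + algebraMap A B δ) + ∑ i, x i * y i = 0
  gen : ∀ T : Subalgebra A B, (∀ i, x i ∈ T) → (∀ i, y i ∈ T) → z ∈ T → ∀ b, b ∈ T
  lift : ∀ (E : Type u) [CommRing E] [Algebra A E] (x' y' : Fin m → E) (z' : E),
    z' * (z' + algebraMap A E δ) + ∑ i, x' i * y' i = 0 →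
      ∃ g : B →ₐ[A] E, (∀ i, g (x i) = x' i) ∧ (∀ i, g (y i) = y' i) ∧ g z = z'

/-- the vector `(x, z)` -/
def xx : Fin (m + 1) → B := Fin.snoc (α := fun _ => B) x z

/-- the vector `(y, z + δ)` -/
def ll : Fin (m + 1) → B := Fin.snoc (α := fun _ => B) y (z + algebraMap A B δ)

variable {B}

omit [CommRing B] in
@[simp] lemma xx_castSucc (i : Fin m) : xx B x z i.castSucc = x i := by simp [xx]
omit [CommRing B] in
@[simp] lemma xx_last : xx B x z (Fin.last m) = z := by simp [xx]
@[simp] lemma ll_castSucc (i : Fin m) : ll A B δ y z i.castSucc = y i := by simp [ll]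
@[simp] lemma ll_last : ll A B δ y z (Fin.last m) = z + algebraMap A B δ := by simp [ll]

variable {A}

lemma IsUniv.sum_eq_zero {x y : Fin m → B} {z : B} (h : IsUniv A B δ x y z) :
    ∑ i, xx B x z i * ll A B δ y z i = 0 := by
  rw [Fin.sum_univ_castSucc]
  simp only [xx_castSucc, ll_castSucc, xx_last, ll_last]
  rw [add_comm]
  exact h.rel

/-- The chart ring. -/
abbrev Ch (j : Fin (m + 1)) : Type u := ChR (J (xx B x z) (ll A B δ y z)) j

variable {δ x y z} (h : IsUniv A B δ x y z) (j : Fin (m + 1))

include h in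
/-- Morphisms from the chart ring of the universal family. -/
theorem exists_lift {F : Type u} [CommRing F] [Algebra A F] (v x' l' : Fin (m + 1) → F)
    (hv : v j = 1) (h1 : ∀ i, x' i = x' j * v i) (h2 : ∑ i, l' i * v i = 0)
    (h3 : l' (Fin.last m) = x' (Fin.last m) + algebraMap A F δ) :
    ∃ ρ : Ch δ x y z j →ₐ[A] F, (∀ i, ρ (cc _ _ j (xx B x z i)) = x' i) ∧
      (∀ i, ρ (cc _ _ j (ll A B δ y z i)) = l' i) ∧ ∀ i, ρ (cv _ _ j i) = v i := by
  obtain ⟨g, hg1, hg2, hg3⟩ := h.lift F (fun i => x' i.castSucc) (fun i => l' i.castSucc)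
    (x' (Fin.last m)) (by
      rw [← h3]
      have h4 : ∑ i, x' i * l' i = 0 := by
        have : ∑ i, x' i * l' i = x' j * ∑ i, l' i * v i := by
          rw [Finset.mul_sum]
          refine Finset.sum_congr rfl fun i _ => ?_
          rw [h1 i]
          ring
        rw [this, h2, mul_zero]
      rw [Fin.sum_univ_castSucc] at h4
      rw [add_comm]
      exact h4)
  have hx : ∀ i, g (xx B x z i) = x' i := by
    intro i
    induction i using Fin.lastCases with
    | last => rw [xx_last, hg3]
    | cast i => rw [xx_castSucc, hg1]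
  have hl : ∀ i, g (ll A B δ y z i) = l' i := by
    intro i
    induction i using Fin.lastCases with
    | last => rw [ll_last, map_add, hg3, h3, AlgHom.commutes]
    | cast i => rw [ll_castSucc, hg2]
  let ρ : Ch δ x y z j →+* F := chLift _ _ j (g : B →+* F) v hv (fun i => by
      change g _ = g _ * _
      rw [hx, hx, h1 i]) (by
      rw [← h2]
      refine Finset.sum_congr rfl fun i _ => ?_
      change g _ * _ = _
      rw [hl])
  refine ⟨{ ρ with commutes' := fun a => ?_ }, fun i => ?_, fun i => ?_, fun i => ?_⟩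
  · change ρ (cc _ _ j (algebraMap A B a)) = _
    rw [chLift_cc]
    exact g.commutes a
  · change ρ _ = _
    rw [chLift_cc]
    exact hx i
  · change ρ _ = _
    rw [chLift_cc]
    exact hl i
  · change ρ _ = _
    rw [chLift_cv]

include h in
/-- A subalgebra containing the coordinates is everything. -/
theorem mem_of_coord (T : Subalgebra A (Ch δ x y z j)) (hv : ∀ i, cv _ _ j i ∈ T)
    (hx : cc _ _ j (xx B x z j) ∈ T) (hl : ∀ i, i ≠ j → i ≠ Fin.last m → cc _ _ j (ll A B δ y z i) ∈ T)
    (w : Ch δ x y z j) : w ∈ T := by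
  have hx' : ∀ i, cc _ _ j (xx B x z i) ∈ T := by
    intro i
    rw [rel_pl']
    exact T.mul_mem hx (hv i)
  have hA : ∀ a, cc (xx B x z) (ll A B δ y z) j (algebraMap A B a) ∈ T := fun a => T.algebraMap_mem a
  have hll : cc _ _ j (ll A B δ y z (Fin.last m)) ∈ T := by
    rw [ll_last, map_add]
    refine T.add_mem ?_ (hA δ)
    have := hx' (Fin.last m)
    rwa [xx_last] at this
  have hl1 : ∀ i, i ≠ j → cc _ _ j (ll A B δ y z i) ∈ T := by
    intro i hi
    by_cases h' : i = Fin.last m
    · rw [h']; exact hll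
    · exact hl i hi h'
  have hl' : ∀ i, cc _ _ j (ll A B δ y z i) ∈ T := by
    intro i
    by_cases hi : i = j
    · subst hi
      have h5 := rel_ln (xx B x z) (ll A B δ y z) i
      rw [Fin.sum_univ_succAbove _ i, cv_self, mul_one] at h5
      rw [eq_neg_of_add_eq_zero_left h5]
      exact T.neg_mem (T.sum_mem fun k _ => T.mul_mem (hl1 _ (Fin.succAbove_ne i k)) (hv _))
    · exact hl1 i hi
  have hB : ∀ b, cc (xx B x z) (ll A B δ y z) j b ∈ T := by
    intro b
    let φ : B →ₐ[A] Ch δ x y z j := { cc (xx B x z) (ll A B δ y z) j with commutes' := fun a => rfl }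
    have h6 := h.gen (T.comap φ) (fun i => ?_) (fun i => ?_) ?_ b
    · exact h6
    · change cc _ _ j (x i) ∈ T
      have := hx' i.castSucc
      rwa [xx_castSucc] at this
    · change cc _ _ j (y i) ∈ T
      have := hl' i.castSucc
      rwa [ll_castSucc] at this
    · change cc _ _ j z ∈ T
      have := hx' (Fin.last m)
      rwa [xx_last] at this
  exact mem_of_cc_cv _ _ j T.toSubring hB hv w

/-- An algebra generated by elements, with a retraction onto a polynomial ring, is a polynomial ring. -/
theorem bijective_aeval {E : Type u} {κ : Type*} [CommRing E] [Algebra A E] (e : κ → E)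
    (ρ : E →ₐ[A] MvPolynomial κ A) (hρ : ∀ k, ρ (e k) = X k)
    (hs : ∀ T : Subalgebra A E, (∀ k, e k ∈ T) → ∀ w, w ∈ T) :
    Function.Bijective (aeval e : MvPolynomial κ A →ₐ[A] E) := by
  constructor
  · have : ∀ p, ρ (aeval e p) = p := by
      intro p
      have h1 : ρ.comp (aeval e) = AlgHom.id A _ := by
        apply MvPolynomial.algHom_ext
        intro k
        rw [AlgHom.comp_apply, aeval_X, hρ, AlgHom.id_apply]
      exact congrArg (fun f => f p) h1
    exact Function.LeftInverse.injective (g := ρ) this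
  · intro w
    exact hs (aeval e).range (fun k => ⟨X k, aeval_X _ _⟩) w

/-- The generators of the chart `T_m ≠ 0`. -/
noncomputable def eLast : Fin m ⊕ Fin m → Ch δ x y z (Fin.last m) :=
  Sum.elim (fun k => cv _ _ _ k.castSucc) (fun k => cc _ _ _ (ll A B δ y z k.castSucc))

include h in
theorem bijective_last : Function.Bijective
    (aeval eLast : MvPolynomial (Fin m ⊕ Fin m) A →ₐ[A] Ch δ x y z (Fin.last m)) := by
  let q : MvPolynomial (Fin m ⊕ Fin m) A := ∑ k, X (Sum.inr k) * X (Sum.inl k)
  let v : Fin (m + 1) → MvPolynomial (Fin m ⊕ Fin m) A :=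
    Fin.snoc (α := fun _ => MvPolynomial (Fin m ⊕ Fin m) A) (fun k => X (Sum.inl k)) 1
  let l' : Fin (m + 1) → MvPolynomial (Fin m ⊕ Fin m) A :=
    Fin.snoc (α := fun _ => MvPolynomial (Fin m ⊕ Fin m) A) (fun k => X (Sum.inr k)) (-q)
  have hv : v (Fin.last m) = 1 := by simp [v]
  have hvc : ∀ i : Fin m, v i.castSucc = X (Sum.inl i) := fun i => by simp [v]
  have hl : l' (Fin.last m) = -q := by simp [l']
  have hlc : ∀ i : Fin m, l' i.castSucc = X (Sum.inr i) := fun i => by simp [l']
  obtain ⟨ρ, h1, h2, h3⟩ := exists_lift h (Fin.last m) v (fun i => (-q - C δ) * v i) l' hv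
    (fun i => by rw [hv, mul_one]) (by
      rw [Fin.sum_univ_castSucc, hv, hl]
      simp only [hvc, hlc]
      change q + _ = 0
      ring) (by
      rw [hl, hv, mul_one, MvPolynomial.algebraMap_eq]
      ring)
  refine bijective_aeval eLast ρ ?_ ?_
  · rintro (k | k)
    · exact (h3 _).trans (hvc k)
    · exact (h2 _).trans (hlc k)
  · intro T hT w
    have hcv : ∀ i, cv (xx B x z) (ll A B δ y z) (Fin.last m) i ∈ T := by
      intro i
      induction i using Fin.lastCases with
      | last => rw [cv_self]; exact T.one_mem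
      | cast i => exact hT (Sum.inl i)
    have hll : ∀ i : Fin m, cc _ _ _ (ll A B δ y z i.castSucc) ∈ T := fun i => hT (Sum.inr i)
    refine mem_of_coord h (Fin.last m) T hcv ?_ ?_ w
    · have h5 := rel_ln (xx B x z) (ll A B δ y z) (Fin.last m)
      rw [Fin.sum_univ_castSucc, cv_self, mul_one, add_comm] at h5
      have h6 := eq_neg_of_add_eq_zero_left h5
      rw [ll_last, map_add, ← eq_sub_iff_add_eq] at h6
      rw [xx_last, h6]
      refine T.sub_mem (T.neg_mem (T.sum_mem fun k _ => T.mul_mem (hll k) (hcv _))) ?_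
      exact T.algebraMap_mem δ
    · intro i _ hi
      obtain ⟨k, rfl⟩ := Fin.exists_castSucc_eq.2 hi
      exact hll k

/-- The generators of the chart `T_j ≠ 0`, `j < m`. -/
noncomputable def eCast (k₀ : Fin m) : Fin m ⊕ Fin m → Ch δ x y z k₀.castSucc :=
  Sum.elim (fun k => if k = k₀ then cv _ _ _ (Fin.last m) else cv _ _ _ k.castSucc)
    (fun k => if k = k₀ then cc _ _ _ (xx B x z k₀.castSucc) else cc _ _ _ (ll A B δ y z k.castSucc))

include h in
theorem bijective_cast (k₀ : Fin m) : Function.Bijective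
    (aeval (eCast k₀) : MvPolynomial (Fin m ⊕ Fin m) A →ₐ[A] Ch δ x y z k₀.castSucc) := by
  let w : MvPolynomial (Fin m ⊕ Fin m) A := X (Sum.inr k₀) * X (Sum.inl k₀) + C δ
  let q : MvPolynomial (Fin m ⊕ Fin m) A := ∑ k, if k = k₀ then 0 else X (Sum.inr k) * X (Sum.inl k)
  let v : Fin (m + 1) → MvPolynomial (Fin m ⊕ Fin m) A :=
    Fin.snoc (α := fun _ => MvPolynomial (Fin m ⊕ Fin m) A)
      (fun k => if k = k₀ then 1 else X (Sum.inl k)) (X (Sum.inl k₀))
  let l' : Fin (m + 1) → MvPolynomial (Fin m ⊕ Fin m) A :=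
    Fin.snoc (α := fun _ => MvPolynomial (Fin m ⊕ Fin m) A)
      (fun k => if k = k₀ then -q - w * X (Sum.inl k₀) else X (Sum.inr k)) w
  have hv : v (Fin.last m) = X (Sum.inl k₀) := by simp [v]
  have hvc : ∀ i : Fin m, v i.castSucc = if i = k₀ then 1 else X (Sum.inl i) := fun i => by simp [v]
  have hvj : v k₀.castSucc = 1 := by rw [hvc, if_pos rfl]
  have hl : l' (Fin.last m) = w := by simp [l']
  have hlc : ∀ i : Fin m, l' i.castSucc = if i = k₀ then -q - w * X (Sum.inl k₀) else X (Sum.inr i) :=
    fun i => by simp [l']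
  obtain ⟨ρ, h1, h2, h3⟩ := exists_lift h k₀.castSucc v (fun i => X (Sum.inr k₀) * v i) l' hvj
    (fun i => by rw [hvj, mul_one]) (by
      rw [Fin.sum_univ_castSucc, hv, hl]
      have h4 : ∑ i : Fin m, l' i.castSucc * v i.castSucc = (-q - w * X (Sum.inl k₀)) + q := by
        have h5 : ∀ i : Fin m, l' i.castSucc * v i.castSucc =
            (if i = k₀ then (-q - w * X (Sum.inl k₀)) else 0) +
              (if i = k₀ then 0 else X (Sum.inr i) * X (Sum.inl i)) := by
          intro i
          rw [hvc, hlc]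
          split_ifs with hi
          · rw [mul_one, add_zero]
          · rw [zero_add]
        rw [Finset.sum_congr rfl fun i _ => h5 i, Finset.sum_add_distrib, Finset.sum_ite_eq',
          if_pos (Finset.mem_univ _)]
      rw [h4]
      ring) (by rw [hl, hv, MvPolynomial.algebraMap_eq])
  refine bijective_aeval (eCast k₀) ρ ?_ ?_
  · rintro (k | k)
    · change ρ (if k = k₀ then cv _ _ _ (Fin.last m) else cv _ _ _ k.castSucc) = _
      split_ifs with hk
      · rw [h3, hv, hk]
      · rw [h3, hvc, if_neg hk]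
    · change ρ (if k = k₀ then cc _ _ _ (xx B x z k₀.castSucc) else cc _ _ _ (ll A B δ y z k.castSucc)) = _
      split_ifs with hk
      · rw [h1, hvj, mul_one, hk]
      · rw [h2, hlc, if_neg hk]
  · intro T hT w
    have hcv : ∀ i, cv (xx B x z) (ll A B δ y z) k₀.castSucc i ∈ T := by
      intro i
      induction i using Fin.lastCases with
      | last =>
        have := hT (Sum.inl k₀)
        rw [eCast, Sum.elim_inl, if_pos rfl] at this
        exact this
      | cast i =>
        by_cases hi : i = k₀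
        · rw [hi, cv_self]; exact T.one_mem
        · have := hT (Sum.inl i)
          rw [eCast, Sum.elim_inl, if_neg hi] at this
          exact this
    refine mem_of_coord h k₀.castSucc T hcv ?_ ?_ w
    · have := hT (Sum.inr k₀)
      rw [eCast, Sum.elim_inr, if_pos rfl] at this
      exact this
    · intro i hij hi
      obtain ⟨k, rfl⟩ := Fin.exists_castSucc_eq.2 hi
      have hk : k ≠ k₀ := fun h' => hij (by rw [h'])
      have := hT (Sum.inr k)
      rw [eCast, Sum.elim_inr, if_neg hk] at this
      exact this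

include h in
/-- The charts are affine spaces over `A`. -/
theorem exists_algEquiv : Nonempty (MvPolynomial (Fin m ⊕ Fin m) A ≃ₐ[A] Ch δ x y z j) := by
  induction j using Fin.lastCases with
  | last => exact ⟨AlgEquiv.ofBijective _ (bijective_last h)⟩
  | cast k₀ => exact ⟨AlgEquiv.ofBijective _ (bijective_cast h k₀)⟩

end Groth.Agent.Vancyc.H683.YGeoAlg
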