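import Groth.Agent.Vancyc.H683.YGeoV
import Groth.Agent.Fga.QD1Sch

/-!
# Base change of closed subschemes of projective space given by a homogeneous ideal
-/

set_option autoImplicit false

open CategoryTheory CategoryTheory.Limits AlgebraicGeometry MvPolynomial HomogeneousLocalization
open Groth.Agent.Sga5.ProjChart Groth.Agent.Sga5.ProjSmooth
open Groth.Agent.CohqB.ProjBC (gmap pmap pmap_toSpec isPullback_pmap chartHom chartHom_C chartHom_X chartι
  chartAlg awayAlg)
open Groth.Agent.Fga.QD1Alg (cmap cmap_awayAlg cmap_chartHom)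
open Groth.Agent.Fga.QD1Sch (chartι_pmap spI spI_comap ker_SpecMap_mk)
open Groth.Agent.Vancyc.H683.YGeoV

universe u

namespace Groth.Agent.Vancyc.H683.YGeoBC

variable {n : ℕ} {R R' : Type u} [CommRing R] [CommRing R'] (φ : R →+* R')

lemma chartEquiv_eq_chartHom (i : Fin (n + 1)) (p : MvPolynomial (Fin n) R) :
    chartEquiv n R i p = chartHom n i (rename i.succAbove p) := by
  have : (chartEquiv n R i : MvPolynomial (Fin n) R →+* _) =
      (chartHom n i).comp (rename (R := R) i.succAbove).toRingHom := by
    apply MvPolynomial.ringHom_ext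
    · intro r
      change chartEquiv n R i (C r) = chartHom n i (rename i.succAbove (C r))
      rw [rename_C, chartHom_C]
      exact chartEquiv_C n R i r
    · intro j
      change chartEquiv n R i (X j) = chartHom n i (rename i.succAbove (X j))
      rw [rename_X, chartHom_X]
      exact chartEquiv_X n R i j
  exact congrArg (fun f => f p) this

lemma cmap_chartEquiv (i : Fin (n + 1)) (p : MvPolynomial (Fin n) R) :
    cmap φ i (chartEquiv n R i p) = chartEquiv n R' i (MvPolynomial.map φ p) := by
  rw [chartEquiv_eq_chartHom, cmap_chartHom, chartEquiv_eq_chartHom, map_rename]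

@[reassoc]
theorem chart_pmap (i : Fin (n + 1)) :
    chart n R' i ≫ pmap φ n = Spec.map (CommRingCat.ofHom (MvPolynomial.map φ)) ≫ chart n R i := by
  have h := chartι_pmap (n := n) φ i
  rw [chart, Category.assoc, chart]
  refine (congrArg (fun t => Spec.map (CommRingCat.ofHom (chartEquiv n R' i).symm.toRingHom) ≫ t) h).trans ?_
  rw [← Category.assoc, ← Category.assoc, ← Spec.map_comp, ← Spec.map_comp]
  congr 2
  apply CommRingCat.hom_ext
  apply RingHom.ext
  intro x
  obtain ⟨p, rfl⟩ := (chartEquiv n R i).surjective x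
  change (chartEquiv n R' i).symm (cmap φ i (chartEquiv n R i p)) =
    MvPolynomial.map φ ((chartEquiv n R i).symm (chartEquiv n R i p))
  rw [RingEquiv.symm_apply_eq, RingEquiv.symm_apply_apply, cmap_chartEquiv]

lemma dehom_map (i : Fin (n + 1)) (p : MvPolynomial (Fin (n + 1)) R) :
    dehom n R' i (MvPolynomial.map φ p) = MvPolynomial.map φ (dehom n R i p) := by
  have : (dehom n R' i).comp (MvPolynomial.map φ) = (MvPolynomial.map φ).comp (dehom n R i) := by
    apply MvPolynomial.ringHom_ext
    · intro r; simp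
    · intro j
      obtain rfl | ⟨k, rfl⟩ := Fin.eq_self_or_eq_succAbove i j
      · simp
      · simp
  exact congrArg (fun f => f p) this

variable (J : HomogeneousIdeal (CohB1.polyGrading n R)) (J' : HomogeneousIdeal (CohB1.polyGrading n R'))

lemma ker_comap_chart (i : Fin (n + 1)) : (emb J).ker.comap (chart n R i) = spI (chI J i) := by
  have h := isPullback_chartV J i
  rw [← Scheme.IdealSheafData.ker_fst_of_isClosedImmersion, ← ker_SpecMap_mk,
    ← h.isoPullback_hom_fst, Scheme.Hom.ker_comp_of_isIso]

variable (hJ : J'.toIdeal = J.toIdeal.map (MvPolynomial.map φ))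

include hJ in
lemma chI_eq (i : Fin (n + 1)) : chI J' i = (chI J i).map (MvPolynomial.map φ) := by
  rw [chI, hJ, Ideal.map_map, chI, Ideal.map_map]
  congr 1
  exact RingHom.ext fun p => dehom_map φ i p

include hJ in
lemma ker_comap_pmap : (emb J).ker.comap (pmap φ n) = (emb J').ker := by
  refine Picfga.IdealGlue.ext_of_forall_exists fun y => ?_
  obtain ⟨i, x, hx⟩ := exists_mem_chart n R' y
  refine ⟨_, chart n R' i, inferInstance, x, hx, ?_⟩
  rw [ker_comap_chart, ← Scheme.IdealSheafData.comap_comp, chart_pmap, Scheme.IdealSheafData.comap_comp,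
    ker_comap_chart, spI_comap, chI_eq φ J J' hJ]

/-- The map `V J' ⟶ V J` for `J' = J R'[T]`. -/
noncomputable def vmap : V J' ⟶ V J :=
  IsClosedImmersion.lift (emb J) (emb J' ≫ pmap φ n) (by
    rw [← Scheme.IdealSheafData.map_ker, ← ker_comap_pmap φ J J' hJ]
    exact Scheme.IdealSheafData.le_map_comap _ _)

@[reassoc]
lemma vmap_emb : vmap φ J J' hJ ≫ emb J = emb J' ≫ pmap φ n := IsClosedImmersion.lift_fac _ _ _

theorem isPullback_vmap_emb : IsPullback (emb J') (vmap φ J J' hJ) (pmap φ n) (emb J) :=
  isPullback_of_isClosedImmersion _ _ _ _ (vmap_emb φ J J' hJ).symm (ker_comap_pmap φ J J' hJ)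

/-- Base change. -/
theorem isPullback_vmap : IsPullback (vmap φ J J' hJ) (toSpec J') (toSpec J)
    (Spec.map (CommRingCat.ofHom φ)) :=
  (isPullback_vmap_emb φ J J' hJ).flip.paste_vert (isPullback_pmap φ n)

end Groth.Agent.Vancyc.H683.YGeoBC
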