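import Groth.Agent.Vancyc.H683.YGeoJ
import Groth.Agent.VarietyB.DimTop
import Mathlib.RingTheory.KrullDimension.NonZeroDivisors
import Mathlib.RingTheory.KrullDimension.Polynomial
import Mathlib.RingTheory.KrullDimension.Field

/-!
# The fibres of the partial resolution

Over a field, `Y x l` has dimension at most `m - 1` if `x = 0`, `l ≠ 0`, and dimension `0` if `x ≠ 0`, `∑ x_i l_i = 0`.
-/

set_option autoImplicit false

open CategoryTheory CategoryTheory.Limits AlgebraicGeometry MvPolynomial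
open Groth.Agent.Sga5.ProjChart
open Groth.Agent.Vancyc.H683.YGeoV Groth.Agent.Vancyc.H683.YGeoBC Groth.Agent.Vancyc.H683.YGeoJ

universe u

namespace Groth.Agent.Vancyc.H683.YGeoFib

variable {n : ℕ} {K : Type u} [Field K] (x l : Fin (n + 1) → K) (j : Fin (n + 1))

lemma dehom_ln_ne_zero (hl : ∃ i, l i ≠ 0) : dehom n K j (ln l) ≠ 0 := by
  have h1 : dehom n K j (ln l) = C (l j) + ∑ k, C (l (j.succAbove k)) * X k := by
    rw [ln, map_sum, Fin.sum_univ_succAbove _ j]
    simp
  intro h0
  rw [h1] at h0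
  obtain ⟨i, hi⟩ := hl
  obtain rfl | ⟨k, rfl⟩ := Fin.eq_self_or_eq_succAbove j i
  · apply hi
    have := congrArg (eval (0 : Fin n → K)) h0
    simpa using this
  · have h2 : l j = 0 := by
      have := congrArg (eval (0 : Fin n → K)) h0
      simpa using this
    apply hi
    have := congrArg (eval (Pi.single k (1 : K))) h0
    simpa [h2, Pi.single_apply] using this

lemma le_of_add_one_le {a : WithBot ℕ∞} {r : ℕ} (h : a + 1 ≤ ((r + 1 : ℕ) : WithBot ℕ∞)) :
    a ≤ (r : WithBot ℕ∞) := by
  induction a using WithBot.recBotCoe with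
  | bot => exact bot_le
  | coe a =>
    have h1 : a + 1 ≤ ((r : ℕ∞) + 1) := by exact_mod_cast h
    have h2 : a ≤ (r : ℕ∞) := (ENat.add_le_add_iff_right ENat.one_ne_top).1 h1
    exact_mod_cast h2

lemma ringKrullDim_chart {r : ℕ} (hr : n = r + 1) (hl : ∃ i, l i ≠ 0) :
    ringKrullDim (ChR (J x l) j) ≤ r := by
  subst hr
  have h1 : dehom (r + 1) K j (ln l) ∈ nonZeroDivisors (MvPolynomial (Fin (r + 1)) K) :=
    mem_nonZeroDivisors_of_ne_zero (dehom_ln_ne_zero l j hl)
  have h2 := ringKrullDim_quotient_succ_le_of_nonZeroDivisor h1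
  rw [MvPolynomial.ringKrullDim_of_isNoetherianRing, ringKrullDim_eq_zero_of_field, zero_add,
    Nat.card_eq_fintype_card, Fintype.card_fin] at h2
  have h3 : Ideal.span {dehom (r + 1) K j (ln l)} ≤ chI (J x l) j := by
    rw [Ideal.span_singleton_le_iff_mem]
    exact Ideal.mem_map_of_mem _ (Ideal.subset_span (Or.inr rfl))
  have h4 := ringKrullDim_le_of_surjective _ (Ideal.Quotient.factor_surjective h3)
  exact h4.trans (le_of_add_one_le h2)

/-- The dimension of the fibre. -/
theorem topologicalKrullDim_le {r : ℕ} (hr : n = r + 1) (hl : ∃ i, l i ≠ 0) :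
    topologicalKrullDim (Y x l) ≤ r := by
  refine VarietyB.DimTop.topologicalKrullDim_le_of_forall fun y => ?_
  obtain ⟨j, hj⟩ := exists_mem_chartV (J x l) y
  refine ⟨(chartV (J x l) j).opensRange, hj, ?_⟩
  have e : Spec (CommRingCat.of (ChR (J x l) j)) ≃ₜ
      ((chartV (J x l) j).opensRange : Set (Y x l)) :=
    (chartV (J x l) j).isOpenEmbedding.toIsEmbedding.toHomeomorph
  rw [← IsHomeomorph.topologicalKrullDim_eq _ e.isHomeomorph]
  exact (PrimeSpectrum.topologicalKrullDim_eq_ringKrullDim _).trans_le (ringKrullDim_chart x l j hr hl)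

/-- The dimension of the fibres outside the centre. -/
theorem topologicalKrullDim_le_zero (h0 : ∑ i, x i * l i = 0) (hx : ∃ i, x i ≠ 0) :
    topologicalKrullDim (Y x l) ≤ 0 := by
  obtain ⟨i, hi⟩ := hx
  have h1 := isIso_π x l h0 i (isUnit_iff_ne_zero.2 hi)
  rw [IsHomeomorph.topologicalKrullDim_eq _ (π x l).homeomorph.isHomeomorph]
  exact (PrimeSpectrum.topologicalKrullDim_eq_ringKrullDim _).trans_le
    (ringKrullDim_eq_zero_of_field K).le

end Groth.Agent.Vancyc.H683.YGeoFib
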