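import Groth.Agent.Vancyc.H683.YGeoBC

/-!
# The partial resolution of `∑ x_i l_i = 0` in projective space

For a ring `S` and vectors `x l : Fin (n + 1) → S`, the homogeneous ideal `J x l` of `S[T_0, …, T_n]` generated by
`x_i T_k - x_k T_i` and `∑ l_i T_i`.
-/

set_option autoImplicit false

open CategoryTheory CategoryTheory.Limits AlgebraicGeometry MvPolynomial HomogeneousLocalization
open Groth.Agent.Sga5.ProjChart Groth.Agent.Sga5.ProjSmooth
open Groth.Agent.CohqB.ProjBC (gmap pmap pmap_toSpec isPullback_pmap)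
open Groth.Agent.Vancyc.H683.YGeoV Groth.Agent.Vancyc.H683.YGeoBC

universe u

namespace Groth.Agent.Vancyc.H683.YGeoJ

variable {n : ℕ} {S : Type u} [CommRing S] (x l : Fin (n + 1) → S)

/-- the minors -/
noncomputable def pl (i k : Fin (n + 1)) : MvPolynomial (Fin (n + 1)) S :=
  C (x i) * X k - C (x k) * X i

/-- the linear form -/
noncomputable def ln : MvPolynomial (Fin (n + 1)) S := ∑ i, C (l i) * X i

/-- the generators -/
def gens : Set (MvPolynomial (Fin (n + 1)) S) :=
  (Set.range fun p : Fin (n + 1) × Fin (n + 1) => pl x p.1 p.2) ∪ {ln l}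

lemma pl_mem (i k : Fin (n + 1)) : pl x i k ∈ CohB1.polyGrading n S 1 := by
  rw [mem_homogeneousSubmodule]
  exact ((isHomogeneous_X S k).C_mul _).sub ((isHomogeneous_X S i).C_mul _)

lemma ln_mem : ln l ∈ CohB1.polyGrading n S 1 := by
  rw [mem_homogeneousSubmodule]
  exact IsHomogeneous.sum _ _ _ fun i _ => (isHomogeneous_X S i).C_mul _

/-- the homogeneous ideal -/
noncomputable def J : HomogeneousIdeal (CohB1.polyGrading n S) where
  __ := Ideal.span (gens x l)
  is_homogeneous' := by
    apply Ideal.homogeneous_span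
    rintro p (⟨q, rfl⟩ | rfl)
    · exact ⟨1, pl_mem x q.1 q.2⟩
    · exact ⟨1, ln_mem l⟩

lemma J_toIdeal : (J x l).toIdeal = Ideal.span (gens x l) := rfl

lemma map_pl {S' : Type u} [CommRing S'] (φ : S →+* S') (i k : Fin (n + 1)) :
    MvPolynomial.map φ (pl x i k) = pl (φ ∘ x) i k := by simp [pl]

lemma map_ln {S' : Type u} [CommRing S'] (φ : S →+* S') :
    MvPolynomial.map φ (ln l) = ln (φ ∘ l) := by simp [ln, map_sum]

lemma J_map {S' : Type u} [CommRing S'] (φ : S →+* S') :
    (J (φ ∘ x) (φ ∘ l)).toIdeal = (J x l).toIdeal.map (MvPolynomial.map φ) := by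
  rw [J_toIdeal, J_toIdeal, Ideal.map_span]
  congr 1
  rw [gens, gens, Set.image_union, Set.image_singleton, ← Set.range_comp]
  congr 1
  · congr 1
    funext p
    exact (map_pl x φ p.1 p.2).symm
  · rw [map_ln]

/-- The scheme `Y` over `Spec S`. -/
noncomputable abbrev Y : Scheme.{u} := V (J x l)

/-- The structure morphism. -/
noncomputable abbrev π : Y x l ⟶ Spec (CommRingCat.of S) := toSpec (J x l)

/-- Base change of `Y`. -/
noncomputable def bc {S' : Type u} [CommRing S'] (φ : S →+* S') : Y (φ ∘ x) (φ ∘ l) ⟶ Y x l :=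
  vmap φ _ _ (J_map x l φ)

theorem isPullback_bc {S' : Type u} [CommRing S'] (φ : S →+* S') :
    IsPullback (bc x l φ) (π (φ ∘ x) (φ ∘ l)) (π x l) (Spec.map (CommRingCat.ofHom φ)) :=
  isPullback_vmap φ _ _ (J_map x l φ)

section Chart

variable (j : Fin (n + 1))

/-- The coordinates `T_i / T_j` on the chart. -/
noncomputable def cv (i : Fin (n + 1)) : ChR (J x l) j :=
  Ideal.Quotient.mk _ (dehom n S j (X i))

@[simp] lemma cv_self : cv x l j j = 1 := by simp [cv]

@[simp] lemma cv_succAbove (k : Fin n) : cv x l j (j.succAbove k) = Ideal.Quotient.mk _ (X k) := by simp [cv]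

/-- The constants on the chart. -/
noncomputable def cc : S →+* ChR (J x l) j := (Ideal.Quotient.mk _).comp C

lemma algebraMap_eq_cc : algebraMap S (ChR (J x l) j) = cc x l j := rfl

lemma mk_dehom_eq_zero {p : MvPolynomial (Fin (n + 1)) S} (hp : p ∈ gens x l) :
    (Ideal.Quotient.mk (chI (J x l) j)) (dehom n S j p) = 0 := by
  rw [Ideal.Quotient.eq_zero_iff_mem]
  exact Ideal.mem_map_of_mem _ (Ideal.subset_span hp)

lemma rel_pl (i k : Fin (n + 1)) : cc x l j (x i) * cv x l j k = cc x l j (x k) * cv x l j i := by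
  have h := mk_dehom_eq_zero x l j (p := pl x i k) (Or.inl ⟨(i, k), rfl⟩)
  rw [pl, map_sub, map_mul, map_mul, dehom_C, dehom_C, map_sub, sub_eq_zero, map_mul, map_mul] at h
  exact h

lemma rel_pl' (i : Fin (n + 1)) : cc x l j (x i) = cc x l j (x j) * cv x l j i := by
  have h := rel_pl x l j i j
  rwa [cv_self, mul_one] at h

lemma rel_ln : ∑ i, cc x l j (l i) * cv x l j i = 0 := by
  have h := mk_dehom_eq_zero x l j (p := ln l) (Or.inr rfl)
  rw [ln, map_sum, map_sum] at h
  rw [← h]
  refine Finset.sum_congr rfl fun i _ => ?_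
  rw [map_mul, dehom_C, map_mul]
  rfl

variable {E : Type u} [CommRing E] (g : S →+* E) (v : Fin (n + 1) → E)

/-- The universal property of the chart ring. -/
noncomputable def chLift (hv : v j = 1) (h1 : ∀ i, g (x i) = g (x j) * v i) (h2 : ∑ i, g (l i) * v i = 0) :
    ChR (J x l) j →+* E :=
  Ideal.Quotient.lift (chI (J x l) j) (eval₂Hom g fun k => v (j.succAbove k)) (by
    have key : ∀ i, (eval₂Hom g fun k => v (j.succAbove k)) (dehom n S j (X i)) = v i := by
      intro i
      obtain rfl | ⟨k, rfl⟩ := Fin.eq_self_or_eq_succAbove j i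
      · rw [dehom_X_self, map_one, hv]
      · rw [dehom_X, coe_eval₂Hom, eval₂_X]
    have hc : ∀ s, (eval₂Hom g fun k => v (j.succAbove k)) (dehom n S j (C s)) = g s := by
      intro s
      rw [dehom_C, coe_eval₂Hom, eval₂_C]
    intro a ha
    have h3 : chI (J x l) j ≤ RingHom.ker (eval₂Hom g fun k => v (j.succAbove k)) := by
      rw [chI, J_toIdeal, Ideal.map_span, Ideal.span_le]
      rintro _ ⟨p, (⟨q, rfl⟩ | rfl), rfl⟩
      · simp only [pl, SetLike.mem_coe, RingHom.mem_ker, map_sub, map_mul, key, hc]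
        rw [h1 q.1, h1 q.2]
        ring
      · simp only [ln, SetLike.mem_coe, RingHom.mem_ker, map_sum, map_mul, key, hc]
        exact h2
    exact h3 ha)

variable (hv : v j = 1) (h1 : ∀ i, g (x i) = g (x j) * v i) (h2 : ∑ i, g (l i) * v i = 0)

@[simp] lemma chLift_cc (s : S) : chLift x l j g v hv h1 h2 (cc x l j s) = g s := by
  rw [chLift, cc, RingHom.comp_apply, Ideal.Quotient.lift_mk, coe_eval₂Hom, eval₂_C]

@[simp] lemma chLift_cv (i : Fin (n + 1)) : chLift x l j g v hv h1 h2 (cv x l j i) = v i := by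
  rw [chLift, cv, Ideal.Quotient.lift_mk]
  obtain rfl | ⟨k, rfl⟩ := Fin.eq_self_or_eq_succAbove j i
  · rw [dehom_X_self, map_one, hv]
  · rw [dehom_X, coe_eval₂Hom, eval₂_X]

lemma ch_hom_ext {f g : ChR (J x l) j →+* E} (hc : ∀ s, f (cc x l j s) = g (cc x l j s))
    (hv : ∀ i, f (cv x l j i) = g (cv x l j i)) : f = g := by
  apply Ideal.Quotient.ringHom_ext
  apply MvPolynomial.ringHom_ext
  · intro s; exact hc s
  · intro k
    have := hv (j.succAbove k)
    rw [cv_succAbove] at this
    exact this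

/-- A subring containing the constants and the coordinates is everything. -/
lemma mem_of_cc_cv (T : Subring (ChR (J x l) j)) (hc : ∀ s, cc x l j s ∈ T) (hv : ∀ i, cv x l j i ∈ T)
    (z : ChR (J x l) j) : z ∈ T := by
  obtain ⟨p, rfl⟩ := Ideal.Quotient.mk_surjective z
  induction p using MvPolynomial.induction_on with
  | C a => exact hc a
  | add p q hp hq => rw [map_add]; exact T.add_mem hp hq
  | mul_X p k hp =>
    rw [map_mul]
    refine T.mul_mem hp ?_
    have := hv (j.succAbove k)
    rwa [cv_succAbove] at this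

end Chart

section Unit

variable (h0 : ∑ i, x i * l i = 0) (j : Fin (n + 1)) (hj : IsUnit (x j))

include h0 hj in
lemma bijective_cc : Function.Bijective (cc x l j) := by
  obtain ⟨w, hw⟩ := hj
  have hxw : x j * (w⁻¹ : Sˣ) = 1 := by rw [← hw]; exact Units.mul_inv w
  constructor
  · have hinv : ∃ ρ : ChR (J x l) j →+* S, ∀ s, ρ (cc x l j s) = s := by
      refine ⟨chLift x l j (RingHom.id S) (fun i => (w⁻¹ : Sˣ) * x i) ?_ ?_ ?_, fun s => ?_⟩
      · rw [mul_comm]; exact hxw
      · intro i
        rw [RingHom.id_apply, RingHom.id_apply, ← mul_assoc, hxw, one_mul]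
      · have : ∑ i, RingHom.id S (l i) * ((w⁻¹ : Sˣ) * x i) = (w⁻¹ : Sˣ) * ∑ i, x i * l i := by
          rw [Finset.mul_sum]
          exact Finset.sum_congr rfl fun i _ => by rw [RingHom.id_apply]; ring
        rw [this, h0, mul_zero]
      · simp
    obtain ⟨ρ, hρ⟩ := hinv
    exact Function.LeftInverse.injective (g := ρ) hρ
  · intro z
    have : z ∈ (cc x l j).range := by
      apply mem_of_cc_cv
      · intro s; exact ⟨s, rfl⟩
      · intro i
        refine ⟨(w⁻¹ : Sˣ) * x i, ?_⟩
        rw [map_mul, rel_pl' x l j i, ← mul_assoc, ← map_mul, mul_comm _ (x j), hxw, map_one, one_mul]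
    exact this

include hj in
lemma mem_opensRange_of_isUnit (y : Y x l) : y ∈ (chartV (J x l) j).opensRange := by
  obtain ⟨i, y, rfl⟩ := exists_mem_chartV (J x l) y
  rw [mem_chartV_iff]
  intro hy
  have h1 := rel_pl' x l i j
  have h2 : IsUnit (cv x l i j) := by
    have h3 : IsUnit (cc x l i (x j)) := hj.map _
    rw [h1] at h3
    exact isUnit_of_mul_isUnit_right h3
  exact y.2.ne_top (Ideal.eq_top_of_isUnit_mem _ hy h2)

include hj in
lemma isIso_chartV : IsIso (chartV (J x l) j) := by
  have : Surjective (chartV (J x l) j) := ⟨fun y => mem_opensRange_of_isUnit x l j hj y⟩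
  exact (isIso_iff_isOpenImmersion_and_surjective _).2 ⟨inferInstance, this⟩

include h0 hj in
/-- `Y ⟶ Spec S` is an isomorphism if some `x_j` is a unit. -/
theorem isIso_π : IsIso (π x l) := by
  have h1 := isIso_chartV x l j hj
  have h2 : IsIso (Spec.map (CommRingCat.ofHom (algebraMap S (ChR (J x l) j)))) := by
    have : IsIso (CommRingCat.ofHom (algebraMap S (ChR (J x l) j))) :=
      (ConcreteCategory.isIso_iff_bijective _).mpr (bijective_cc x l h0 j hj)
    infer_instance
  rw [← chartV_toSpec] at h2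
  exact IsIso.of_isIso_comp_left (chartV (J x l) j) (π x l)

end Unit

end Groth.Agent.Vancyc.H683.YGeoJ
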