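import Groth.Agent.Vancyc.H683.YGeoAlg
import Groth.Agent.Vancyc.H683.YGeoFib
import Mathlib.AlgebraicGeometry.Fiber

/-!
# The partial resolution of the split quadric: smooth, proper, isomorphism outside the centre
-/

set_option autoImplicit false

open CategoryTheory CategoryTheory.Limits AlgebraicGeometry MvPolynomial
open Groth.Agent.Sga5.ProjChart Groth.Agent.Sga5.ProjSmooth
open Groth.Agent.Vancyc.H683.YGeoV Groth.Agent.Vancyc.H683.YGeoBC Groth.Agent.Vancyc.H683.YGeoJ
open Groth.Agent.Vancyc.H683.YGeoAlg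

universe u

namespace Groth.Agent.Vancyc.H683.YGeoMain

section General

variable {n : ℕ} {S : Type u} [CommRing S] (x l : Fin (n + 1) → S)

instance isProper_π : IsProper (π x l) := inferInstance

lemma sum_map_eq_zero {S' : Type u} [CommRing S'] (φ : S →+* S') (h0 : ∑ i, x i * l i = 0) :
    ∑ i, (φ ∘ x) i * (φ ∘ l) i = 0 := by
  have := congrArg φ h0
  rw [map_sum, map_zero] at this
  rw [← this]
  exact Finset.sum_congr rfl fun i _ => (map_mul φ _ _).symm

/-- The pullback of `π` along a composition with a `Spec.map`. -/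
theorem exists_iso_pullback {S' : Type u} [CommRing S'] (φ : S →+* S') {T : Scheme.{u}}
    (q : T ⟶ Spec (CommRingCat.of S')) (g : T ⟶ Spec (CommRingCat.of S))
    (hg : q ≫ Spec.map (CommRingCat.ofHom φ) = g) :
    ∃ e : pullback (π (φ ∘ x) (φ ∘ l)) q ≅ pullback (π x l) g,
      e.hom ≫ pullback.snd _ _ = pullback.snd _ _ := by
  subst hg
  have h2 := (IsPullback.of_hasPullback (π (φ ∘ x) (φ ∘ l)) q).paste_horiz (isPullback_bc x l φ)
  exact ⟨h2.isoPullback, h2.isoPullback_hom_snd⟩

/-- `Y` pulled back to `T` is `T` if some `x_j` is invertible on `T`. -/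
theorem isIso_pullback_of_isUnit (h0 : ∑ i, x i * l i = 0) (j : Fin (n + 1)) {T : Scheme.{u}}
    (g : T ⟶ Spec (CommRingCat.of S)) (hg : ∀ t, x j ∉ (g t).asIdeal) :
    IsIso (pullback.snd (π x l) g) := by
  let φ : S →+* Localization.Away (x j) := algebraMap _ _
  have hφ : IsOpenImmersion (Spec.map (CommRingCat.ofHom φ)) :=
    IsOpenImmersion.of_isLocalization (x j)
  have hr : Set.range g ⊆ Set.range (Spec.map (CommRingCat.ofHom φ)) := by
    rintro _ ⟨t, rfl⟩
    have : Set.range (Spec.map (CommRingCat.ofHom φ)) = (PrimeSpectrum.basicOpen (x j)).carrier :=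
      PrimeSpectrum.localization_away_comap_range _ (x j)
    rw [this]
    exact hg t
  obtain ⟨q, hq⟩ : ∃ q : T ⟶ Spec (CommRingCat.of (Localization.Away (x j))),
      q ≫ Spec.map (CommRingCat.ofHom φ) = g :=
    ⟨IsOpenImmersion.lift _ g hr, IsOpenImmersion.lift_fac _ _ _⟩
  have h1 : IsIso (π (φ ∘ x) (φ ∘ l)) :=
    isIso_π _ _ (sum_map_eq_zero x l φ h0) j (IsLocalization.Away.algebraMap_isUnit (x j))
  obtain ⟨e, he⟩ := exists_iso_pullback x l φ q g hq
  have h3 : IsIso (e.hom ≫ pullback.snd (π x l) g) := by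
    rw [he]
    infer_instance
  exact IsIso.of_isIso_comp_left e.hom _

/-- `Y` pulled back to `T` is `T` if the `x_j` generate the unit ideal on `T`. -/
theorem isIso_pullback (h0 : ∑ i, x i * l i = 0) {T : Scheme.{u}}
    (g : T ⟶ Spec (CommRingCat.of S)) (hg : ∀ t, ∃ j, x j ∉ (g t).asIdeal) :
    IsIso (pullback.snd (π x l) g) := by
  let U : Fin (n + 1) → T.Opens := fun j => g ⁻¹ᵁ (PrimeSpectrum.basicOpen (x j))
  have hU : TopologicalSpace.IsOpenCover U := by
    rw [TopologicalSpace.IsOpenCover, eq_top_iff]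
    intro t _
    obtain ⟨j, hj⟩ := hg t
    exact TopologicalSpace.Opens.mem_iSup.2 ⟨j, hj⟩
  have key : ∀ j, IsIso (pullback.snd (pullback.snd (π x l) g) (U j).ι) := by
    intro j
    have h1 := isIso_pullback_of_isUnit x l h0 j ((U j).ι ≫ g) (fun t => t.2)
    have h2 := (pullbackLeftPullbackSndIso (π x l) g (U j).ι)
    have h3 : pullback.snd (pullback.snd (π x l) g) (U j).ι =
        (pullbackLeftPullbackSndIso (π x l) g (U j).ι).hom ≫ pullback.snd (π x l) ((U j).ι ≫ g) := by
      rw [pullbackLeftPullbackSndIso_hom_snd]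
    rw [h3]
    infer_instance
  exact MorphismProperty.of_zeroHypercover_target (P := .isomorphisms Scheme)
    (T.openCoverOfIsOpenCover U hU) key

/-- The fibre over a field-valued point. -/
theorem exists_iso_field {K : Type u} [Field K] (g : Spec (CommRingCat.of K) ⟶ Spec (CommRingCat.of S)) :
    ∃ φ : S →+* K, Spec.map (CommRingCat.ofHom φ) = g ∧
      ∃ e : Y (φ ∘ x) (φ ∘ l) ≅ pullback (π x l) g, e.hom ≫ pullback.snd _ _ = π _ _ := by
  refine ⟨(Spec.preimage g).hom, ?_, ?_⟩
  · exact Spec.map_preimage g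
  · have h := isPullback_bc x l (Spec.preimage g).hom
    have h2 : Spec.map (CommRingCat.ofHom (Spec.preimage g).hom) = g := Spec.map_preimage g
    rw [h2] at h
    exact ⟨h.isoPullback, h.isoPullback_hom_snd⟩

lemma eq_zero_iff {K : Type u} [Field K] (φ : S →+* K) (s : S) (p : Spec (CommRingCat.of K)) :
    φ s = 0 ↔ s ∈ (Spec.map (CommRingCat.ofHom φ) p).asIdeal := by
  change _ ↔ φ s ∈ p.asIdeal
  have h3 : p.asIdeal = ⊥ := (Ideal.eq_bot_or_top _).resolve_right p.2.ne_top
  rw [h3, Ideal.mem_bot]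

/-- The fibre dimension. -/
theorem topologicalKrullDim_fiber_le {r : ℕ} (hr : n = r + 1) (h0 : ∑ i, x i * l i = 0) {T : Scheme.{u}}
    (g : T ⟶ Spec (CommRingCat.of S)) (t : T) (ht : ∃ i, x i ∉ (g t).asIdeal ∨ l i ∉ (g t).asIdeal) :
    topologicalKrullDim ((pullback.snd (π x l) g).fiber t) ≤ (r : WithBot ℕ∞) := by
  obtain ⟨φ, hφ, e, he⟩ := exists_iso_field x l (T.fromSpecResidueField t ≫ g)
  have e2 : Y (φ ∘ x) (φ ∘ l) ≅ (pullback.snd (π x l) g).fiber t :=
    e ≪≫ (pullbackLeftPullbackSndIso (π x l) g (T.fromSpecResidueField t)).symm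
  rw [← IsHomeomorph.topologicalKrullDim_eq _ e2.hom.homeomorph.isHomeomorph]
  have h1 : ∀ s : S, φ s = 0 ↔ s ∈ (g t).asIdeal := by
    intro s
    have h2 : (Spec.map (CommRingCat.ofHom φ)) (IsLocalRing.closedPoint (T.residueField t)) = g t := by
      rw [hφ]
      exact congrArg g (Scheme.fromSpecResidueField_apply t _)
    rw [← h2]
    exact eq_zero_iff φ s _
  obtain ⟨i, hi | hi⟩ := ht
  · refine (YGeoFib.topologicalKrullDim_le_zero _ _ (sum_map_eq_zero x l φ h0) ⟨i, ?_⟩).trans ?_
    · exact fun h => hi ((h1 _).1 h)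
    · exact_mod_cast Nat.zero_le r
  · exact YGeoFib.topologicalKrullDim_le _ _ hr ⟨i, fun h => hi ((h1 _).1 h)⟩

end General

section Univ

variable {A B : Type u} [CommRing A] [CommRing B] [Algebra A B] {m : ℕ} {δ : A} {x y : Fin m → B} {z : B}

lemma isStandardSmooth_chart (h : IsUniv A B δ x y z) (j : Fin (m + 1)) :
    Algebra.IsStandardSmoothOfRelativeDimension (2 * m) A (Ch δ x y z j) := by
  obtain ⟨e⟩ := exists_algEquiv h j
  have h1 : Algebra.IsStandardSmoothOfRelativeDimension (2 * m) A (MvPolynomial (Fin m ⊕ Fin m) A) :=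
    (mvSubm A (Fin m ⊕ Fin m)).isStandardSmoothOfRelativeDimension (by
      rw [Algebra.Presentation.dimension]
      simp
      ring)
  exact Algebra.IsStandardSmoothOfRelativeDimension.of_algEquiv _ e

/-- `Y` is smooth over `A` of relative dimension `2 m`. -/
theorem smooth_π (h : IsUniv A B δ x y z) :
    SmoothOfRelativeDimension (2 * m) (π (xx B x z) (ll A B δ y z) ≫
      Spec.map (CommRingCat.ofHom (algebraMap A B))) := by
  rw [IsZariskiLocalAtSource.iff_of_openCover (P := @SmoothOfRelativeDimension (2 * m))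
    (chartCover (J (xx B x z) (ll A B δ y z)))]
  intro j
  have h1 : chartV (J (xx B x z) (ll A B δ y z)) j ≫ π (xx B x z) (ll A B δ y z) ≫
      Spec.map (CommRingCat.ofHom (algebraMap A B)) =
      Spec.map (CommRingCat.ofHom (algebraMap A (Ch δ x y z j))) := by
    rw [chartV_toSpec_assoc, ← Spec.map_comp, ← CommRingCat.ofHom_comp]
  change SmoothOfRelativeDimension (2 * m) (chartV (J (xx B x z) (ll A B δ y z)) j ≫ _)
  rw [h1, HasRingHomProperty.Spec_iff (P := @SmoothOfRelativeDimension (2 * m))]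
  have h2 := isStandardSmooth_chart h j
  refine RingHom.locally_of RingHom.isStandardSmoothOfRelativeDimension_respectsIso _ ?_
  rw [← RingHom.isStandardSmoothOfRelativeDimension_algebraMap] at h2
  exact h2

/-- Over the locus where `δ` is invertible, the fibres of `Y` have dimension `≤ m - 1`. -/
theorem topologicalKrullDim_fiber_univ (h : IsUniv A B δ x y z) (hm : 0 < m) {T : Scheme.{u}}
    (g : T ⟶ Spec (CommRingCat.of B)) (t : T) (ht : algebraMap A B δ ∉ (g t).asIdeal) :
    topologicalKrullDim ((pullback.snd (π (xx B x z) (ll A B δ y z)) g).fiber t) ≤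
      ((m - 1 : ℕ) : WithBot ℕ∞) := by
  refine topologicalKrullDim_fiber_le _ _ (by omega) h.sum_eq_zero g t ?_
  by_contra hcon
  push Not at hcon
  have h1 := (hcon (Fin.last m)).1
  have h2 := (hcon (Fin.last m)).2
  rw [xx_last] at h1
  rw [ll_last] at h2
  exact ht ((Ideal.add_mem_iff_right _ h1).1 h2)

end Univ

end Groth.Agent.Vancyc.H683.YGeoMain
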