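import Groth.Agent.Sga5.ProjHyper
import Groth.Agent.Ega3B.ProjProper
import Groth.Agent.Lefpen.H713.GrQuot
import Groth.Agent.Lefpen.H713.HypProj
import Groth.Agent.CohqB.ProjBC

/-!
# Closed subschemes of projective space over a ring given by a homogeneous ideal

For a homogeneous ideal `J` of `R[T_0, …, T_n]`:

* `V J`: the closed subscheme of `P^n_R` defined by `J` (`Proj` of the quotient ring);
* `emb J : V J ⟶ CohB1.ProjSpace n R` is a closed immersion, `toSpec J` is proper;
* `chartV J i : Spec (MvPolynomial (Fin n) R ⧸ J.map dehom_i) ⟶ V J` is an open immersion over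
  `Spec R`; these charts cover; `isPullback_chartV`.

(The proofs follow `Groth.Agent.Lefpen.H713.HypProj`, the case of a principal ideal.)
-/

set_option autoImplicit false

open CategoryTheory AlgebraicGeometry MvPolynomial HomogeneousLocalization
open Groth.Agent.Sga5.ProjChart Groth.Agent.Sga5.ProjSmooth Groth.Agent.Sga5.ProjSurj
open Groth.Agent.Sga5.ProjHyper
open Groth.Agent.Lefpen.H713.GrQuot
open Groth.Agent.Lefpen.H713.HypProj (toPoly_mk chartEquiv_dehom)

universe u

namespace Groth.Agent.Vancyc.H683.YGeoV

variable {n : ℕ} {R : Type u} [CommRing R] (J : HomogeneousIdeal (CohB1.polyGrading n R))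

/-- the homogeneous coordinate ring -/
abbrev CR : Type u := MvPolynomial (Fin (n + 1)) R ⧸ J.toIdeal

/-- its grading -/
noncomputable def gr : ℕ → Submodule R (CR J) :=
  quotGr (CohB1.polyGrading n R) J.toIdeal

noncomputable instance : GradedAlgebra (gr J) :=
  quotGraded (CohB1.polyGrading n R) (homog_of_isHomogeneous (CohB1.polyGrading n R) J.isHomogeneous)

/-- the graded projection -/
noncomputable def prG : CohB1.polyGrading n R →+*ᵍ gr J where
  toRingHom := Ideal.Quotient.mk _
  map_mem := fun h => mk_mem_quotGr (CohB1.polyGrading n R) _ h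

lemma prG_apply (p : MvPolynomial (Fin (n + 1)) R) : prG J p = Ideal.Quotient.mk _ p := rfl

lemma degSurj_prG : DegSurj (prG J) := by
  rintro i _ ⟨a, ha, rfl⟩
  exact ⟨a, ha, rfl⟩

/-- the closed subscheme of projective space -/
noncomputable def V : Scheme.{u} := Proj (gr J)

/-- the closed immersion into projective space -/
noncomputable def emb : V J ⟶ CohB1.ProjSpace n R :=
  Proj.map (prG J) (irrelevant_le_map (degSurj_prG J))

instance isClosedImmersion_emb : IsClosedImmersion (emb J) :=
  isClosedImmersion_map _ (degSurj_prG J)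

/-- the structure morphism -/
noncomputable def toSpec : V J ⟶ Spec (CommRingCat.of R) := emb J ≫ CohB1.ProjSpace.toSpec n R

instance isProper_toSpec : IsProper (toSpec J) := by
  have h1 : IsProper (CohB1.ProjSpace.toSpec n R) := Ega3B.ProjProper.isProper_toSpec n R
  exact MorphismProperty.comp_mem @IsProper _ _ inferInstance h1

variable (i : Fin (n + 1))

/-- the ideal of the chart `T_i ≠ 0` -/
noncomputable abbrev chI : Ideal (MvPolynomial (Fin n) R) := J.toIdeal.map (dehom n R i)

/-- the ring of the chart `T_i ≠ 0` -/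
abbrev ChR : Type u := MvPolynomial (Fin n) R ⧸ chI J i

/-- the map from the polynomial ring to the degree zero localization -/
noncomputable def toAway : MvPolynomial (Fin n) R →+* Away (gr J) (prG J (X i)) :=
  (Away.map (prG J) (X i)).comp (chartEquiv n R i : MvPolynomial (Fin n) R →+* _)

lemma toAway_surjective : Function.Surjective (toAway J i) :=
  (away_map_surjective (degSurj_prG J) (X i) (X_mem n R i)).comp (chartEquiv n R i).surjective

lemma toAway_dehom {e : ℕ} (a : MvPolynomial (Fin (n + 1)) R)
    (ha : a ∈ CohB1.polyGrading n R (e • 1)) :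
    toAway J i (dehom n R i a) = Away.mk (gr J) ((prG J).2 (X_mem n R i)) e (prG J a) ((prG J).2 ha) := by
  rw [toAway, RingHom.comp_apply]
  change Away.map (prG J) (X i) (chartEquiv n R i (dehom n R i a)) = _
  rw [chartEquiv_dehom i a ha]
  exact Away.map_mk ..

lemma toAway_dehom_mem (a : MvPolynomial (Fin (n + 1)) R) (ha : a ∈ J.toIdeal) :
    toAway J i (dehom n R i a) = 0 := by
  classical
  rw [← DirectSum.sum_support_decompose (CohB1.polyGrading n R) a, map_sum, map_sum]
  refine Finset.sum_eq_zero fun e _ => ?_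
  have h1 : (DirectSum.decompose (CohB1.polyGrading n R) a e : MvPolynomial (Fin (n + 1)) R) ∈
      J.toIdeal := J.isHomogeneous e ha
  have h2 := (DirectSum.decompose (CohB1.polyGrading n R) a e).2
  rw [toAway_dehom J i _ (e := e) (by simp)]
  apply HomogeneousLocalization.val_injective
  rw [Away.val_mk, HomogeneousLocalization.val_zero]
  have : prG J (DirectSum.decompose (CohB1.polyGrading n R) a e : MvPolynomial (Fin (n + 1)) R) = 0 := by
    rw [prG_apply, Ideal.Quotient.eq_zero_iff_mem]
    exact h1
  rw [this, Localization.mk_zero]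

lemma ker_toAway : RingHom.ker (toAway J i) = chI J i := by
  apply le_antisymm
  · intro r hr
    obtain ⟨e, a, ha, hz⟩ := Away.mk_surjective _ (X_mem n R i) (chartEquiv n R i r)
    have h1 : r = dehom n R i a := by
      have := toPoly_ofPoly n R i r
      rw [← this]
      change toPoly n R i (chartEquiv n R i r) = _
      rw [← hz, toPoly_mk]
    rw [h1] at hr ⊢
    rw [RingHom.mem_ker, toAway_dehom J i a ha] at hr
    have h2 := congrArg HomogeneousLocalization.val hr
    rw [Away.val_mk, HomogeneousLocalization.val_zero, ← Localization.mk_zero 1,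
      Localization.mk_eq_mk_iff, Localization.r_iff_exists] at h2
    obtain ⟨⟨_, N, rfl⟩, h3⟩ := h2
    simp only [Submonoid.coe_one, one_mul, mul_zero] at h3
    have h4 : (Ideal.Quotient.mk J.toIdeal) (X i ^ N * a) = 0 := by
      rw [map_mul, map_pow]
      exact h3
    rw [Ideal.Quotient.eq_zero_iff_mem] at h4
    have h5 := Ideal.mem_map_of_mem (dehom n R i) h4
    rwa [map_mul, map_pow, dehom_X_self, one_pow, one_mul] at h5
  · rw [chI, Ideal.map_le_iff_le_comap]
    intro a ha
    exact toAway_dehom_mem J i a ha

/-- the chart ring is the degree-zero localization -/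
noncomputable def chEquiv : ChR J i ≃+* Away (gr J) (prG J (X i)) :=
  (Ideal.quotEquivOfEq (ker_toAway J i).symm).trans
    (RingHom.quotientKerEquivOfSurjective (toAway_surjective J i))

lemma chEquiv_mk (p : MvPolynomial (Fin n) R) :
    chEquiv J i (Ideal.Quotient.mk _ p) = toAway J i p := rfl

/-- the chart `T_i ≠ 0` of `V J` -/
noncomputable def chartV : Spec (CommRingCat.of (ChR J i)) ⟶ V J :=
  Spec.map (CommRingCat.ofHom (chEquiv J i).symm.toRingHom) ≫
    Proj.awayι (gr J) (prG J (X i)) ((prG J).2 (X_mem n R i)) Nat.one_pos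

instance isIso_chEquiv : IsIso (Spec.map (CommRingCat.ofHom (chEquiv J i).symm.toRingHom)) := by
  have : IsIso (CommRingCat.ofHom (chEquiv J i).symm.toRingHom) :=
    (ConcreteCategory.isIso_iff_bijective _).mpr (chEquiv J i).symm.bijective
  infer_instance

instance isOpenImmersion_chartV : IsOpenImmersion (chartV J i) := by
  have h1 : IsOpenImmersion (Proj.awayι (gr J) (prG J (X i)) ((prG J).2 (X_mem n R i)) Nat.one_pos) :=
    IsOpenImmersion.comp _ _
  exact MorphismProperty.comp_mem (W := @IsOpenImmersion) _ _ inferInstance h1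

theorem opensRange_chartV : (chartV J i).opensRange = Proj.basicOpen (gr J) (prG J (X i)) := by
  have h1 : IsOpenImmersion (Proj.awayι (gr J) (prG J (X i)) ((prG J).2 (X_mem n R i)) Nat.one_pos) :=
    IsOpenImmersion.comp _ _
  refine Eq.trans ?_ (Proj.opensRange_awayι (gr J) (prG J (X i)) ((prG J).2 (X_mem n R i)) Nat.one_pos)
  exact @Scheme.Hom.opensRange_comp_of_isIso _ _ _ _ _ _ h1

@[reassoc]
theorem chartV_emb : chartV J i ≫ emb J =
    Spec.map (CommRingCat.ofHom (Ideal.Quotient.mk (chI J i))) ≫ chart n R i := by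
  have h1 := Proj.awayι_comp_map (prG J) (irrelevant_le_map (degSurj_prG J)) Nat.one_pos (X i)
    (X_mem n R i)
  rw [chartV, chart, emb, Category.assoc]
  refine (congrArg (fun t => Spec.map (CommRingCat.ofHom (chEquiv J i).symm.toRingHom) ≫ t) h1).trans ?_
  rw [← Category.assoc, ← Category.assoc, ← Spec.map_comp, ← Spec.map_comp]
  congr 2
  apply CommRingCat.hom_ext
  apply RingHom.ext
  intro x
  obtain ⟨p, rfl⟩ := (chartEquiv n R i).surjective x
  change (chEquiv J i).symm (Away.map (prG J) (X i) (chartEquiv n R i p)) =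
    Ideal.Quotient.mk _ ((chartEquiv n R i).symm (chartEquiv n R i p))
  rw [RingEquiv.symm_apply_eq, chEquiv_mk, RingEquiv.symm_apply_apply]
  rfl

@[reassoc]
theorem chartV_toSpec : chartV J i ≫ toSpec J = Spec.map (CommRingCat.ofHom (algebraMap R (ChR J i))) := by
  rw [toSpec, chartV_emb_assoc, chart_toSpec, ← Spec.map_comp]
  rfl

/-- the charts are cut out of the charts of projective space -/
theorem isPullback_chartV : IsPullback
    (Spec.map (CommRingCat.ofHom (Ideal.Quotient.mk (chI J i))))
    (chartV J i) (chart n R i) (emb J) := by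
  apply IsOpenImmersion.isPullback
  · exact chartV_emb J i
  · rw [opensRange_chart, opensRange_chartV]
    exact Proj.map_preimage_basicOpen (prG J) (irrelevant_le_map (degSurj_prG J)) (X i)

theorem exists_mem_chartV (x : V J) : ∃ i, x ∈ (chartV J i).opensRange := by
  obtain ⟨i, hi⟩ := exists_mem_chart n R (emb J x)
  refine ⟨i, ?_⟩
  rw [opensRange_chart] at hi
  rw [opensRange_chartV]
  have h := Proj.map_preimage_basicOpen (prG J) (irrelevant_le_map (degSurj_prG J)) (X i)
  rw [← h]
  exact hi

/-- the chart cover -/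
noncomputable def chartCover : (V J).OpenCover :=
  Scheme.Cover.mkOfCovers (Fin (n + 1)) (fun i => Spec (CommRingCat.of (ChR J i)))
    (fun i => chartV J i) (fun x => by
      obtain ⟨i, y, hy⟩ := exists_mem_chartV J x
      exact ⟨i, y, hy⟩) (fun i => inferInstance)

/-- membership in a chart, for points of another chart -/
theorem mem_chartV_iff (i j : Fin (n + 1)) (y : Spec (CommRingCat.of (ChR J i))) :
    chartV J i y ∈ (chartV J j).opensRange ↔
      Ideal.Quotient.mk (chI J i) (dehom n R i (X j)) ∉ y.asIdeal := by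
  rw [opensRange_chartV]
  have h1 : chartV J i ⁻¹ᵁ (Proj.basicOpen (gr J) (prG J (X j))) =
      PrimeSpectrum.basicOpen ((Ideal.Quotient.mk (chI J i)) (dehom n R i (X j)) :
        ChR J i) := by
    have h2 := Proj.awayι_preimage_basicOpen (gr J) (f := prG J (X i)) (g := prG J (X j))
      ((prG J).2 (X_mem n R i)) Nat.one_pos ((prG J).2 (X_mem n R j)) Nat.one_pos
    refine (congrArg (fun V => Spec.map (CommRingCat.ofHom (chEquiv J i).symm.toRingHom) ⁻¹ᵁ V)
      h2).trans ?_
    have h3 : (chEquiv J i).symm (Away.isLocalizationElem ((prG J).2 (X_mem n R i))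
        ((prG J).2 (X_mem n R j))) = Ideal.Quotient.mk _ (dehom n R i (X j)) := by
      rw [RingEquiv.symm_apply_eq, chEquiv_mk, toAway_dehom J i (X j) (e := 1) (by simpa using X_mem n R j)]
      apply HomogeneousLocalization.val_injective
      rw [Away.isLocalizationElem, Away.val_mk, Away.val_mk]
      congr 1
      exact pow_one _
    rw [← h3]
    rfl
  rw [← PrimeSpectrum.mem_basicOpen, ← h1]
  rfl

end Groth.Agent.Vancyc.H683.YGeoV
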